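import Cfsg.Agent.Lib.BrauerPairs.HeightBound

/-!
# Galois averages of divisible sums of roots of unity

If an integral combination of roots of unity is `D` times a nonzero algebraic integer, its twists
have absolute values averaging to at least `D` and squared absolute values averaging to at least
`D²`.
-/

set_option autoImplicit false

namespace Cfsg.Agent.Blocks.CountBound

open Finset

universe u

/-- The twists of the `N`-th roots of unity, with divisibility. -/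
theorem exists_twists_div (N : ℕ) [NeZero N] :
    ∃ (m : ℕ) (k : Fin m → ℕ), 0 < m ∧ (∀ j, (k j).Coprime N) ∧
      ∀ (ι : Type u) [Fintype ι] (c : ι → ℤ) (μ : ι → ℂ), (∀ i, μ i ^ N = 1) → ∀ D : ℕ,
        IsIntegral ℤ ((∑ i, (c i : ℂ) * μ i) / (D : ℂ)) → (∑ i, (c i : ℂ) * μ i) ≠ 0 →
          (m : ℝ) * D ≤ ∑ j, ‖∑ i, (c i : ℂ) * μ i ^ k j‖ ∧
            (m : ℝ) * (D : ℝ) ^ 2 ≤ ∑ j, ‖∑ i, (c i : ℂ) * μ i ^ k j‖ ^ 2 := by
  classical
  obtain ⟨ζ, hζ⟩ : ∃ ζ : ℂ, IsPrimitiveRoot ζ N := ⟨_, Complex.isPrimitiveRoot_exp N (NeZero.ne N)⟩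
  let K : IntermediateField ℚ ℂ := IntermediateField.adjoin ℚ {ζ}
  have : FiniteDimensional ℚ K :=
    IntermediateField.adjoin.finiteDimensional (hζ.isIntegral (NeZero.pos N)).tower_top
  let g : K := ⟨ζ, IntermediateField.subset_adjoin ℚ _ rfl⟩
  have hg : IsPrimitiveRoot g N :=
    IsPrimitiveRoot.of_map_of_injective (f := K.val) hζ K.val.injective
  have hσ : ∀ σ : K →ₐ[ℚ] ℂ, ∃ k : ℕ, k.Coprime N ∧ σ g = ζ ^ k := by
    intro σ
    obtain ⟨k, -, hk, hk'⟩ := hζ.isPrimitiveRoot_iff.1 (hg.map_of_injective σ.injective)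
    exact ⟨k, hk, hk'.symm⟩
  choose k hk hk' using hσ
  let E := Fintype.equivFin (K →ₐ[ℚ] ℂ)
  refine ⟨Fintype.card (K →ₐ[ℚ] ℂ), fun j => k (E.symm j),
    Fintype.card_pos_iff.2 ⟨K.val⟩, fun j => hk _, fun ι _ c μ hμ D hint hne => ?_⟩
  rcases Nat.eq_zero_or_pos D with rfl | hD
  · simp only [Nat.cast_zero, zero_pow two_ne_zero, mul_zero]
    exact ⟨sum_nonneg fun _ _ => norm_nonneg _, sum_nonneg fun _ _ => by positivity⟩
  choose a _ ha using fun i => hζ.eq_pow_of_pow_eq_one (hμ i)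
  let x : K := (∑ i, (c i : K) * g ^ a i) / (D : K)
  have hval : ∀ σ : K →ₐ[ℚ] ℂ, σ x = (∑ i, (c i : ℂ) * μ i ^ k σ) / (D : ℂ) := by
    intro σ
    simp only [x, map_div₀, map_natCast, map_sum, map_mul, map_intCast, map_pow, hk', ← ha]
    congr 1
    exact sum_congr rfl fun i _ => by rw [pow_right_comm]
  have hxval : K.val x = (∑ i, (c i : ℂ) * μ i) / (D : ℂ) := by
    simp only [x, map_div₀, map_natCast, map_sum, map_mul, map_intCast, map_pow, ← ha]
    rfl
  have hxint : IsIntegral ℤ x :=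
    (isIntegral_algHom_iff (K.val.restrictScalars ℤ) K.val.injective).1 (by
      show IsIntegral ℤ (K.val x)
      rw [hxval]; exact hint)
  have hx0 : x ≠ 0 := fun h => hne (by
    rw [h, map_zero] at hxval
    simpa [hD.ne'] using hxval.symm)
  have hnorm : ∀ σ : K →ₐ[ℚ] ℂ, ‖∑ i, (c i : ℂ) * μ i ^ k σ‖ = ‖σ x‖ * (D : ℝ) := fun σ => by
    rw [hval, norm_div, Complex.norm_natCast, div_mul_cancel₀ _ (Nat.cast_ne_zero.2 hD.ne')]
  rw [← E.sum_comp, ← E.sum_comp]
  simp only [Equiv.symm_apply_apply, hnorm, mul_pow, ← sum_mul]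
  exact ⟨mul_le_mul_of_nonneg_right (HeightBound.card_le_sum_norm_embeddings hxint hx0)
    (Nat.cast_nonneg D), mul_le_mul_of_nonneg_right
    (CharInt.card_le_sum_norm_sq_embeddings hxint hx0) (by positivity)⟩

end Cfsg.Agent.Blocks.CountBound
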