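import Cfsg.Agent.Lib.Blocks.CountBound.Galois
import Cfsg.Agent.Lib.BrauerPairs.MajorSubsection

/-!
# Counting with a major subsection

For a major subsection `(x, b)` of `B` of defect `d`:
* `card_le_pow_mul_rank`: `k(B) ≤ p^d l(b)`;
* `card_height_zero_mul_weight_le`: `k₀(B) Σ_χ p^(2 h(χ)) ≤ p^(2d) l(b)`;
* `card_mul_le_of_forms`: integral forms on `b` bound `k(B)` by their total norm.
-/

set_option autoImplicit false
set_option linter.unusedSectionVars false
set_option linter.style.haveILetI false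

namespace Cfsg.Agent.Blocks.CountBound

open Cfsg Blocks
open Cfsg.Agent.BrauerPairs (regDot regDot_comm)
open Cfsg.Agent.HeightBound (ctr scal sfun sdot)
open scoped Classical ComplexConjugate

universe u

variable {G : Type u} [Group G] [Fintype G] {M : Ideal AlgInt} [M.IsMaximal] {p : ℕ}
  [hp : Fact p.Prime]

theorem centralizer_pow {x : G} {t : ℕ} (ht : t.Coprime (Nat.card G)) :
    Subgroup.centralizer ({x} : Set G) = Subgroup.centralizer ({x ^ t} : Set G) := by
  obtain ⟨i, hi⟩ := exists_pow_eq_self_of_coprime (ht.coprime_dvd_right (orderOf_dvd_natCard x))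
  refine le_antisymm (fun g hg => ?_) fun g hg => ?_ <;>
    rw [Subgroup.mem_centralizer_singleton_iff] at hg ⊢
  · exact (Commute.pow_right hg t).eq
  · rw [← hi]; exact (Commute.pow_right hg i).eq

variable {B : Set (IrrCharacter G)} {C : Subgroup G} {b : Set (IrrCharacter C)}

/-- `Σ_{η ∈ b} ⟨χ(y ·), η⟩ z(η)`. -/
noncomputable def secVec (C : Subgroup G) (b : Set (IrrCharacter C)) (y : G)
    (χ : G → ℂ) (z : IrrCharacter C → ℂ) : ℂ :=
  ∑ η ∈ Finset.univ.filter (· ∈ b), classInner (sfun C y χ) η.1 * z η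

section fixed

variable {y : G} (hC : C = Subgroup.centralizer ({y} : Set G))
include hC

theorem ctr_sums (hpM : (p : AlgInt) ∈ M) {k : ℕ} (hy : orderOf y = p ^ k)
    (hb : IsInducedBlock M C b B) :
    (∑ χ ∈ Finset.univ.filter (· ∈ B), ctr p C b y χ.1 χ.1 = blockRank p b) ∧
    (∀ χ : IrrCharacter G, ∑ ψ ∈ Finset.univ.filter (· ∈ B),
        ctr p C b y χ.1 ψ.1 * conj (ctr p C b y χ.1 ψ.1) = ctr p C b y χ.1 χ.1) ∧
    (∀ χ ψ : IrrCharacter G, conj (ctr p C b y χ.1 ψ.1) = ctr p C b y ψ.1 χ.1) := by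
  subst hC
  simp only [HeightBound.ctr_eq_contribution]
  refine ⟨?_, fun χ => ?_, fun χ ψ => Blocks.conj_contribution hpM hb.1 χ ψ⟩
  · convert Blocks.sum_contribution_self hpM hy hb
  · convert Blocks.sum_contribution_mul_conj hpM hy hb χ

theorem ctr_ne_zero (hpM : (p : AlgInt) ∈ M) {k : ℕ} (hy : orderOf y = p ^ k)
    (hb : IsInducedBlock M C b B) (hd : blockDefect p b = blockDefect p B) {χ ψ : IrrCharacter G}
    (hχ : χ ∈ B) (hψ : ψ ∈ B) (hψ0 : blockHeight p B ψ.1 = 0) : ctr p C b y χ.1 ψ.1 ≠ 0 := by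
  subst hC
  rw [HeightBound.ctr_eq_contribution]
  intro h
  refine (Blocks.contribution_height hpM hy hb hd hχ hψ hψ0).2.1 ?_
  rw [h, mul_zero, zero_div]
  exact Blocks.memLocalIdeal_zero

theorem sum_secVec_mul_conj (hpM : (p : AlgInt) ∈ M) {k : ℕ} (hy : orderOf y = p ^ k)
    (hb : IsInducedBlock M C b B) (z z' : IrrCharacter C → ℂ)
    (hz : ∀ η ∈ b, z η = ∑ η' ∈ Finset.univ.filter (· ∈ b), regDot p η.1 η'.1 * z η')
    (hz' : ∀ η ∈ b, z' η = ∑ η' ∈ Finset.univ.filter (· ∈ b), regDot p η.1 η'.1 * z' η') :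
    ∑ χ ∈ Finset.univ.filter (· ∈ B), secVec C b y χ.1 z * conj (secVec C b y χ.1 z') =
      ∑ η ∈ Finset.univ.filter (· ∈ b), z η * conj (z' η) := by
  subst hC
  set T := Finset.univ.filter (fun η : IrrCharacter (Subgroup.centralizer ({y} : Set G)) => η ∈ b)
  have key : ∀ (z : IrrCharacter (Subgroup.centralizer ({y} : Set G)) → ℂ),
      (∀ η ∈ b, z η = ∑ η' ∈ T, regDot p η.1 η'.1 * z η') → ∀ χ : IrrCharacter G,
      secVec _ b y χ.1 z = ∑ η ∈ T, regDot p (secFun y χ.1) η.1 * z η := by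
    intro z hz χ
    rw [secVec, Finset.sum_congr rfl fun η hη => by rw [hz η (Finset.mem_filter.1 hη).2]]
    simp only [Finset.mul_sum]
    rw [Finset.sum_comm]
    refine Finset.sum_congr rfl fun η' hη' => ?_
    rw [Blocks.regDot_secFun hpM hb.1 χ (Finset.mem_filter.1 hη').2, Finset.sum_mul]
    exact Finset.sum_congr rfl fun η _ => by rw [mul_assoc]; rfl
  simp only [key z hz, key z' hz', map_sum, map_mul, Finset.sum_mul_sum]
  rw [Finset.sum_comm]
  refine Finset.sum_congr rfl fun η hη => ?_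
  rw [Finset.sum_comm, hz' η (Finset.mem_filter.1 hη).2, map_sum, Finset.mul_sum]
  refine Finset.sum_congr rfl fun η' hη' => ?_
  rw [map_mul, Blocks.conj_regDot_irr, ← Blocks.sum_regDot_secFun hpM hy hb (Finset.mem_filter.1 hη).2
    (Finset.mem_filter.1 hη').2, Finset.sum_mul, Finset.mul_sum]
  exact Finset.sum_congr rfl fun χ _ => by ring

theorem ctr_eq_zero_of_part_eq_zero (hpM : (p : AlgInt) ∈ M) (hb : IsPBlock M b) (χ : IrrCharacter G)
    {ι : Type*} (s : Finset ι) (w : ι → IrrCharacter C → ℂ) (z : ι → IrrCharacter C → ℂ)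
    (hR : ∀ η ∈ b, ∀ η' ∈ b, regDot p η'.1 η.1 = ∑ i ∈ s, z i η' * w i η)
    (h0 : ∀ i ∈ s, secVec C b y χ.1 (z i) = 0) : ctr p C b y χ.1 χ.1 = 0 := by
  subst hC
  refine Finset.sum_eq_zero fun η hη => ?_
  have h : sdot p (Subgroup.centralizer ({y} : Set G)) y χ.1 η.1 = 0 := by
    show regDot p (secFun y χ.1) η.1 = 0
    rw [Blocks.regDot_secFun hpM hb χ (Finset.mem_filter.1 hη).2]
    rw [Finset.sum_congr rfl fun η' hη' => by
      rw [hR η (Finset.mem_filter.1 hη).2 η' (Finset.mem_filter.1 hη').2]]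
    simp only [Finset.mul_sum]
    rw [Finset.sum_comm]
    refine Finset.sum_eq_zero fun i hi => ?_
    rw [Finset.sum_congr rfl fun η' _ => (mul_assoc _ _ _).symm, ← Finset.sum_mul]
    exact mul_eq_zero_of_left (h0 i hi) _
  rw [h, map_zero, mul_zero]

theorem isIntegral_scaled (hyC : y ∈ C) {k : ℕ} (hy : orderOf y = p ^ k) (χ ψ : IrrCharacter G)
    (hpM : (p : AlgInt) ∈ M) (hb : IsPBlock M b) :
    IsIntegral ℤ ((Nat.card G : ℂ) / χ.1 1 * ctr p C b y χ.1 ψ.1) := by
  have hsym : ctr p C b y χ.1 ψ.1 = conj (ctr p C b y ψ.1 χ.1) := by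
    subst hC
    rw [HeightBound.ctr_eq_contribution, HeightBound.ctr_eq_contribution,
      Blocks.conj_contribution hpM hb]
  rw [hsym, ctr, map_sum, Finset.mul_sum]
  refine IsIntegral.sum _ fun η _ => ?_
  obtain ⟨mm, -, hm⟩ := Char.IsCharacter.exists_decomp
    (Char.IsCharacter.restrict (Char.irr_isCharacter ψ) C)
  rw [map_mul, Complex.conj_conj, HeightBound.classInner_sfun hC hyC, hm η, map_mul, map_natCast,
    mul_left_comm]
  refine IsIntegral.mul (IsIntegral.mul ?_ ?_) ?_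
  · refine IsIntegral.of_pow (Nat.card_pos (α := C)) ?_
    rw [← map_pow, ← HeightBound.scal_pow η _ (fun a => Subtype.ext
      (Subgroup.mem_centralizer_singleton_iff.1 (hC.le a.2)).symm), pow_card_eq_one',
      HeightBound.scal_one, map_one]
    exact isIntegral_one
  · exact isIntegral_natCast _
  · exact HeightBound.isIntegral_sdot hC hy χ η

end fixed

variable {x : G} (hyC : x ∈ C)
  (hC : ∀ t : ℕ, t.Coprime (Nat.card G) → C = Subgroup.centralizer ({x ^ t} : Set G))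
include hyC hC

theorem hC_one : C = Subgroup.centralizer ({x} : Set G) := by
  simpa using hC 1 (Nat.coprime_one_left _)

theorem commute_elt (a : C) : Commute (⟨x, hyC⟩ : C) a :=
  Subtype.ext (Subgroup.mem_centralizer_singleton_iff.1 ((hC_one hyC hC).le a.2)).symm

theorem scal_pow_card (η : IrrCharacter C) : scal η ⟨x, hyC⟩ ^ Nat.card G = 1 := by
  rw [← HeightBound.scal_pow η _ (commute_elt hyC hC),
    show (⟨x, hyC⟩ : C) ^ Nat.card G = 1 from Subtype.ext (by simp), HeightBound.scal_one]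

theorem classInner_sfun_pow {t : ℕ} (ht : t.Coprime (Nat.card G)) (χ : G → ℂ) (η : IrrCharacter C) :
    classInner (sfun C (x ^ t) χ) η.1 =
      scal η ⟨x, hyC⟩ ^ t * classInner (fun c : C => χ c) η.1 := by
  rw [HeightBound.classInner_sfun (hC t ht) (pow_mem hyC t),
    ← HeightBound.scal_pow η _ (commute_elt hyC hC)]
  rfl

theorem exists_pair_combination (hpM : (p : AlgInt) ∈ M) (hb : IsPBlock M b) (χ ψ : IrrCharacter G) :
    ∃ (c : IrrCharacter C × IrrCharacter C → ℤ) (μ : IrrCharacter C × IrrCharacter C → ℂ),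
      (∀ i, μ i ^ Nat.card G = 1) ∧ ∀ t : ℕ, t.Coprime (Nat.card G) →
        ((p ^ blockDefect p b : ℕ) : ℂ) * ctr p C b (x ^ t) χ.1 ψ.1 =
          ∑ i, (c i : ℂ) * μ i ^ t := by
  obtain ⟨m, -, hm⟩ := Char.IsCharacter.exists_decomp
    (Char.IsCharacter.restrict (Char.irr_isCharacter χ) C)
  obtain ⟨m', -, hm'⟩ := Char.IsCharacter.exists_decomp
    (Char.IsCharacter.restrict (Char.irr_isCharacter ψ) C)
  choose! c hc using fun η (hη : η ∈ b) => BrauerPairs.exists_int_regDot hpM hp.out hb hη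
  refine ⟨fun i => if i.1 ∈ b ∧ i.2 ∈ b then (m i.1 : ℤ) * m' i.2 * c i.2 i.1 else 0,
    fun i => scal i.1 ⟨x, hyC⟩ * conj (scal i.2 ⟨x, hyC⟩), fun i => ?_, fun t ht => ?_⟩
  · simp only [mul_pow, ← map_pow, scal_pow_card hyC hC, map_one, mul_one]
  have hA := classInner_sfun_pow hyC hC ht
  have hd : ∀ η ∈ b, sdot p C (x ^ t) ψ.1 η.1 = ∑ η' ∈ Finset.univ.filter (· ∈ b),
      classInner (sfun C (x ^ t) ψ.1) η'.1 * regDot p η'.1 η.1 := by
    have hC' := hC t ht
    subst hC'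
    exact fun η hη => Blocks.regDot_secFun hpM hb ψ hη
  rw [Fintype.sum_prod_type, ctr, Finset.mul_sum, Finset.sum_filter]
  refine Finset.sum_congr rfl fun η _ => ?_
  by_cases hη : η ∈ b
  swap
  · simp [hη]
  rw [if_pos hη, hd η hη, map_sum, Finset.mul_sum, Finset.mul_sum, Finset.sum_filter]
  refine Finset.sum_congr rfl fun η' _ => ?_
  by_cases hη' : η' ∈ b
  swap
  · simp [hη']
  simp only [hη, hη', and_self, if_true]
  rw [hA, hA, hm η, hm' η', map_mul, map_mul, map_natCast, Blocks.conj_regDot_irr, mul_pow, map_pow]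
  simp only [Int.cast_mul, Int.cast_natCast, ← hc η' hη' η]
  ring

/-- `p^h ∣ p^d m(χ, ψ)`. -/
theorem isIntegral_pair_div (hpM : (p : AlgInt) ∈ M) {k : ℕ} (hx : orderOf x = p ^ k)
    (hb : IsPBlock M b) (hd : blockDefect p b = blockDefect p B) {χ : IrrCharacter G} (hχ : χ ∈ B)
    (ψ : IrrCharacter G) :
    IsIntegral ℤ (((p ^ blockDefect p b : ℕ) : ℂ) * ctr p C b x χ.1 ψ.1 /
      ((p ^ blockHeight p B χ.1 : ℕ) : ℂ)) := by
  obtain ⟨c, μ, hμ, hval⟩ := exists_pair_combination hyC hC hpM hb χ ψ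
  set d := blockDefect p b with hddef
  set h := blockHeight p B χ.1 with hhdef
  set a := (Nat.card G).factorization p
  set m := Nat.card G / p ^ a
  set w := Char.degree χ / p ^ (Char.degree χ).factorization p
  set X := ((p ^ d : ℕ) : ℂ) * ctr p C b x χ.1 ψ.1 with hX
  have hXi : IsIntegral ℤ X := by
    have h1 := hval 1 (Nat.coprime_one_left _)
    simp only [pow_one] at h1
    rw [hX, h1]
    exact IsIntegral.sum _ fun i _ => (isIntegral_algebraMap (x := c i)).mul
      (IsIntegral.of_pow (Nat.card_pos (α := G)) (by rw [hμ]; exact isIntegral_one))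
  have hW := isIntegral_scaled (hC_one hyC hC) hyC hx χ ψ hpM hb
  have he : (Char.degree χ).factorization p + d = a + h := by
    have h1 := Char.sInf_le_factorization_degree (p := p) hχ
    have h2 : (Char.degree χ).factorization p ≤ a :=
      (Nat.factorization_le_iff_dvd (Char.degree_pos χ).ne' Nat.card_pos.ne').2
        (Char.degree_dvd_natCard χ) p
    rw [hd, hhdef, blockDefect, blockHeight, Blocks.charDegree_eq]
    omega
  have hdeg : (Char.degree χ : ℂ) = (p : ℂ) ^ (Char.degree χ).factorization p * w := by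
    exact_mod_cast (Nat.ordProj_mul_ordCompl_eq_self _ _).symm
  have hG : (Nat.card G : ℂ) = (p : ℂ) ^ a * m := by
    exact_mod_cast (Nat.ordProj_mul_ordCompl_eq_self _ _).symm
  have hp0 : (p : ℂ) ≠ 0 := Nat.cast_ne_zero.2 hp.out.ne_zero
  have hmX : IsIntegral ℤ ((m : ℂ) * (X / ((p ^ h : ℕ) : ℂ))) := by
    refine (congrArg (IsIntegral ℤ) ?_).mp ((isIntegral_natCast w).mul hW)
    have hpe : (p : ℂ) ^ (Char.degree χ).factorization p * (p : ℂ) ^ d =
        (p : ℂ) ^ a * (p : ℂ) ^ h := by rw [← pow_add, ← pow_add, he]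
    have hw : (w : ℂ) ≠ 0 := fun h0 => by
      have := Char.degree_pos χ
      rw [h0, mul_zero, Nat.cast_eq_zero] at hdeg
      omega
    rw [Char.apply_one_eq_degree, hdeg, hG, hX, Nat.cast_pow, Nat.cast_pow]
    field_simp
    linear_combination -((m : ℂ) * ctr p C b x χ.1 ψ.1) * hpe
  have hcop : IsCoprime ((m : ℤ)) ((p ^ h : ℕ) : ℤ) := by
    refine Nat.isCoprime_iff_coprime.2 (Nat.Coprime.pow_right _ ?_)
    exact (hp.out.coprime_iff_not_dvd.2 (Nat.not_dvd_ordCompl hp.out Nat.card_pos.ne')).symm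
  obtain ⟨r, s, hrs⟩ := hcop
  have hph : ((p ^ h : ℕ) : ℂ) ≠ 0 := Nat.cast_ne_zero.2 (pow_ne_zero _ hp.out.ne_zero)
  refine (congrArg (IsIntegral ℤ) ?_).mp
    (((isIntegral_algebraMap (A := ℂ) (x := r)).mul hmX).add
      ((isIntegral_algebraMap (A := ℂ) (x := s)).mul hXi))
  have h3 : (r : ℂ) * m + (s : ℂ) * ((p ^ h : ℕ) : ℂ) = 1 := by exact_mod_cast hrs
  simp only [algebraMap_int_eq, eq_intCast]
  field_simp
  linear_combination X * h3

variable {k : ℕ} (hpM : (p : AlgInt) ∈ M) (hx : orderOf x = p ^ k)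
  (hb : IsInducedBlock M C b B) (hd : blockDefect p b = blockDefect p B)
include hpM hx hb hd

omit hd in
theorem orderOf_pow_coprime {t : ℕ} (ht : t.Coprime (Nat.card G)) : orderOf (x ^ t) = p ^ k := by
  rw [(ht.coprime_dvd_right (orderOf_dvd_natCard x)).symm.orderOf_pow, hx]

/-- `k(B) ≤ p^d l(b)`. -/
theorem card_le_pow_mul_rank : Nat.card B ≤ p ^ blockDefect p B * blockRank p b := by
  haveI : NeZero (Nat.card G) := ⟨Nat.card_pos.ne'⟩
  obtain ⟨m, e, hm, he, hmain⟩ := exists_twists_div.{u} (Nat.card G)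
  set S := Finset.univ.filter (fun χ : IrrCharacter G => χ ∈ B)
  choose c μ hμ hval using fun χ : IrrCharacter G => exists_pair_combination hyC hC hpM hb.1 χ χ
  have hval1 : ∀ χ : IrrCharacter G,
      ((p ^ blockDefect p b : ℕ) : ℂ) * ctr p C b x χ.1 χ.1 = ∑ i, (c χ i : ℂ) * μ χ i := fun χ => by
    have := hval χ 1 (Nat.coprime_one_left _)
    simpa using this
  have hfix : ∀ j, ∑ χ ∈ S, ‖∑ i, (c χ i : ℂ) * μ χ i ^ e j‖ =
      (p : ℝ) ^ blockDefect p b * blockRank p b := by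
    intro j
    obtain ⟨hs1, hs2, hs3⟩ := ctr_sums (hC (e j) (he j)) hpM (orderOf_pow_coprime hyC hC hpM hx hb (he j)) hb
    have hre : ∀ χ : IrrCharacter G, ctr p C b (x ^ e j) χ.1 χ.1 =
        ((∑ ψ ∈ S, ‖ctr p C b (x ^ e j) χ.1 ψ.1‖ ^ 2 : ℝ) : ℂ) := fun χ => by
      rw [← hs2 χ]
      push_cast
      exact Finset.sum_congr rfl fun ψ _ => Complex.mul_conj' _
    refine Complex.ofReal_injective ?_
    push_cast
    rw [← hs1, Finset.mul_sum]
    refine Finset.sum_congr rfl fun χ _ => ?_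
    rw [← hval χ _ (he j), norm_mul, Complex.norm_natCast, hre χ, Complex.norm_real, Real.norm_eq_abs,
      abs_of_nonneg (Finset.sum_nonneg fun ψ _ => sq_nonneg _)]
    push_cast
    ring
  have hlow : ∀ χ ∈ S, (m : ℝ) ≤ ∑ j, ‖∑ i, (c χ i : ℂ) * μ χ i ^ e j‖ := by
    intro χ hχ
    obtain ⟨-, -, -, hne⟩ := HeightBound.ctr_facts hpM (hC_one hyC hC) hx hb χ
    have h := (hmain _ (c χ) (μ χ) (hμ χ) 1 (by
      rw [Nat.cast_one, div_one]
      exact IsIntegral.sum _ fun i _ => (isIntegral_algebraMap (x := c χ i)).mul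
        (IsIntegral.of_pow (Nat.card_pos (α := G)) (by rw [hμ]; exact isIntegral_one)))
      (by
        rw [← hval1]
        exact mul_ne_zero (Nat.cast_ne_zero.2 (pow_ne_zero _ hp.out.ne_zero))
          (hne hd (Finset.mem_filter.1 hχ).2))).1
    simpa using h
  have h2 := Finset.sum_le_sum hlow
  rw [Finset.sum_const, nsmul_eq_mul, Finset.sum_comm, Finset.sum_congr rfl fun j _ => hfix j,
    Finset.sum_const, Finset.card_univ, Fintype.card_fin, nsmul_eq_mul] at h2
  rw [mul_comm] at h2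
  have h3 := le_of_mul_le_mul_left h2 (Nat.cast_pos.2 hm)
  rw [Nat.card_eq_fintype_card, Fintype.card_subtype, ← hd]
  exact_mod_cast h3

/-- `k₀(B) Σ_χ p^(2 h(χ)) ≤ p^(2d) l(b)`. -/
theorem card_height_zero_mul_weight_le :
    (Finset.univ.filter fun χ : IrrCharacter G => χ ∈ B ∧ blockHeight p B χ.1 = 0).card *
        ∑ χ ∈ Finset.univ.filter (· ∈ B), p ^ (2 * blockHeight p B χ.1) ≤
      p ^ (2 * blockDefect p B) * blockRank p b := by
  haveI : NeZero (Nat.card G) := ⟨Nat.card_pos.ne'⟩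
  obtain ⟨m, e, hm, he, hmain⟩ := exists_twists_div.{u} (Nat.card G)
  set S := Finset.univ.filter (fun χ : IrrCharacter G => χ ∈ B)
  set S0 := Finset.univ.filter (fun χ : IrrCharacter G => χ ∈ B ∧ blockHeight p B χ.1 = 0)
  choose c μ hμ hval using fun χ ψ : IrrCharacter G => exists_pair_combination hyC hC hpM hb.1 χ ψ
  have hfix : ∀ j, ∑ χ ∈ S, ∑ ψ ∈ S, ‖∑ i, (c χ ψ i : ℂ) * μ χ ψ i ^ e j‖ ^ 2 =
      ((p : ℝ) ^ blockDefect p b) ^ 2 * blockRank p b := by
    intro j
    obtain ⟨hs1, hs2, hs3⟩ := ctr_sums (hC (e j) (he j)) hpM (orderOf_pow_coprime hyC hC hpM hx hb (he j)) hb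
    refine Complex.ofReal_injective ?_
    push_cast
    rw [← hs1, Finset.mul_sum]
    refine Finset.sum_congr rfl fun χ _ => ?_
    rw [← hs2 χ, Finset.mul_sum]
    refine Finset.sum_congr rfl fun ψ _ => ?_
    rw [← hval χ ψ _ (he j), ← Complex.mul_conj', map_mul, map_natCast]
    push_cast
    ring
  have hlow : ∀ χ ∈ S, ∀ ψ ∈ S0, (m : ℝ) * ((p : ℝ) ^ blockHeight p B χ.1) ^ 2 ≤
      ∑ j, ‖∑ i, (c χ ψ i : ℂ) * μ χ ψ i ^ e j‖ ^ 2 := by
    intro χ hχ ψ hψ
    obtain ⟨hψB, hψ0⟩ := (Finset.mem_filter.1 hψ).2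
    have hχB := (Finset.mem_filter.1 hχ).2
    have h1 := hval χ ψ 1 (Nat.coprime_one_left _)
    simp only [pow_one] at h1
    have h := (hmain _ (c χ ψ) (μ χ ψ) (hμ χ ψ) (p ^ blockHeight p B χ.1)
      (by rw [← h1]; exact isIntegral_pair_div hyC hC hpM hx hb.1 hd hχB ψ)
      (by
        rw [← h1]
        exact mul_ne_zero (Nat.cast_ne_zero.2 (pow_ne_zero _ hp.out.ne_zero))
          (ctr_ne_zero (hC_one hyC hC) hpM hx hb hd hχB hψB hψ0))).2
    push_cast at h
    exact h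
  have h2 : (m : ℝ) * ((S0.card : ℝ) * ∑ χ ∈ S, ((p : ℝ) ^ blockHeight p B χ.1) ^ 2) ≤
      (m : ℝ) * (((p : ℝ) ^ blockDefect p b) ^ 2 * blockRank p b) := by
    calc _ = ∑ χ ∈ S, ∑ ψ ∈ S0, (m : ℝ) * ((p : ℝ) ^ blockHeight p B χ.1) ^ 2 := by
          simp only [Finset.sum_const, nsmul_eq_mul, Finset.mul_sum]
          exact Finset.sum_congr rfl fun χ _ => by ring
      _ ≤ ∑ χ ∈ S, ∑ ψ ∈ S, ∑ j, ‖∑ i, (c χ ψ i : ℂ) * μ χ ψ i ^ e j‖ ^ 2 := by
          refine Finset.sum_le_sum fun χ hχ => (Finset.sum_le_sum (hlow χ hχ)).trans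
            (Finset.sum_le_sum_of_subset_of_nonneg (fun ψ hψ => ?_) fun ψ _ _ =>
              Finset.sum_nonneg fun j _ => sq_nonneg _)
          exact Finset.mem_filter.2 ⟨Finset.mem_univ _, (Finset.mem_filter.1 hψ).2.1⟩
      _ = _ := by
          rw [Finset.sum_congr rfl fun χ _ => Finset.sum_comm, Finset.sum_comm,
            Finset.sum_congr rfl fun j _ => hfix j, Finset.sum_const, Finset.card_univ,
            Fintype.card_fin, nsmul_eq_mul]
  have h3 := le_of_mul_le_mul_left h2 (Nat.cast_pos.2 hm)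
  rw [← hd]
  simp only [← pow_mul] at h3
  rw [← Nat.cast_le (α := ℝ)]
  push_cast
  simp only [mul_comm 2] at h3 ⊢
  exact h3

omit hd in
/-- Integral forms on `b`: if each member of `B` sees `r` of them, `r k(B)` is at most their norm. -/
theorem card_mul_le_of_forms {ι : Type*} [Fintype ι] (z : ι → IrrCharacter C → ℤ)
    (hz : ∀ l, ∀ η ∈ b, (z l η : ℂ) =
      ∑ η' ∈ Finset.univ.filter (· ∈ b), regDot p η.1 η'.1 * (z l η' : ℂ))
    {n : ℕ} (hn : ∑ l, ∑ η ∈ Finset.univ.filter (· ∈ b), z l η ^ 2 = (n : ℤ)) (r : ℕ)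
    (hr : ∀ χ ∈ B, r ≤ (Finset.univ.filter fun l =>
      secVec C b x χ.1 (fun η => (z l η : ℂ)) ≠ 0).card) :
    r * Nat.card B ≤ n := by
  haveI : NeZero (Nat.card G) := ⟨Nat.card_pos.ne'⟩
  obtain ⟨m, e, hm, he, hmain⟩ := exists_twists_div.{u} (Nat.card G)
  set S := Finset.univ.filter (fun χ : IrrCharacter G => χ ∈ B)
  choose mlt hmlt0 hmlt using fun χ : IrrCharacter G =>
    Char.IsCharacter.exists_decomp (Char.IsCharacter.restrict (Char.irr_isCharacter χ) C)
  let c : IrrCharacter G → ι → IrrCharacter C → ℤ := fun χ l η =>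
    if η ∈ b then (mlt χ η : ℤ) * z l η else 0
  have hval : ∀ χ l, ∀ t : ℕ, t.Coprime (Nat.card G) →
      secVec C b (x ^ t) χ.1 (fun η => (z l η : ℂ)) = ∑ η, (c χ l η : ℂ) * scal η ⟨x, hyC⟩ ^ t := by
    intro χ l t ht
    rw [secVec, Finset.sum_filter]
    refine Finset.sum_congr rfl fun η _ => ?_
    simp only [c]
    split_ifs with hη
    · rw [classInner_sfun_pow hyC hC ht, hmlt χ η]
      push_cast
      ring
    · simp
  have hfix : ∀ j, ∑ χ ∈ S, ∑ l, ‖∑ η, (c χ l η : ℂ) * scal η ⟨x, hyC⟩ ^ e j‖ ^ 2 = (n : ℝ) := by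
    intro j
    refine Complex.ofReal_injective ?_
    push_cast
    rw [Finset.sum_comm, show (n : ℂ) = ((n : ℤ) : ℂ) by simp, ← hn, Int.cast_sum]
    refine Finset.sum_congr rfl fun l _ => ?_
    push_cast
    rw [Finset.sum_congr rfl fun η _ => show ((z l η : ℂ)) ^ 2 = (z l η : ℂ) * conj (z l η : ℂ) by
      rw [map_intCast, pow_two],
      ← sum_secVec_mul_conj (hC (e j) (he j)) hpM (orderOf_pow_coprime hyC hC hpM hx hb (he j)) hb
        _ _ (hz l) (hz l)]
    exact Finset.sum_congr rfl fun χ _ => by rw [hval χ l _ (he j), Complex.mul_conj']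
  have hlow : ∀ χ ∈ S, (m : ℝ) * r ≤ ∑ l, ∑ j, ‖∑ η, (c χ l η : ℂ) * scal η ⟨x, hyC⟩ ^ e j‖ ^ 2 := by
    intro χ hχ
    set L := Finset.univ.filter fun l => secVec C b x χ.1 (fun η => (z l η : ℂ)) ≠ 0
    refine le_trans ?_ (Finset.sum_le_sum_of_subset_of_nonneg (Finset.subset_univ L) fun l _ _ =>
      Finset.sum_nonneg fun j _ => sq_nonneg _)
    refine le_trans ?_ (Finset.sum_le_sum (f := fun _ => (m : ℝ)) fun l hl => ?_)
    · rw [Finset.sum_const, nsmul_eq_mul, mul_comm]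
      exact mul_le_mul_of_nonneg_right (by exact_mod_cast hr χ (Finset.mem_filter.1 hχ).2)
        (Nat.cast_nonneg m)
    · have h1 := hval χ l 1 (Nat.coprime_one_left _)
      simp only [pow_one] at h1
      have h := (hmain _ (c χ l) (fun η => scal η ⟨x, hyC⟩) (scal_pow_card hyC hC) 1 (by
        rw [Nat.cast_one, div_one]
        exact IsIntegral.sum _ fun η _ => (isIntegral_algebraMap (x := c χ l η)).mul
          (IsIntegral.of_pow (Nat.card_pos (α := G)) (by rw [scal_pow_card hyC hC]; exact isIntegral_one)))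
        (by rw [← h1]; exact (Finset.mem_filter.1 hl).2)).2
      simpa using h
  have h2 := Finset.sum_le_sum hlow
  rw [Finset.sum_const, nsmul_eq_mul, Finset.sum_congr rfl fun χ _ => Finset.sum_comm,
    Finset.sum_comm, Finset.sum_congr rfl fun j _ => hfix j, Finset.sum_const, Finset.card_univ,
    Fintype.card_fin, nsmul_eq_mul] at h2
  have h3 : (m : ℝ) * ((r : ℝ) * S.card) ≤ (m : ℝ) * n := by linarith
  have h4 := le_of_mul_le_mul_left h3 (Nat.cast_pos.2 hm)
  rw [Nat.card_eq_fintype_card, Fintype.card_subtype]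
  exact_mod_cast h4

end Cfsg.Agent.Blocks.CountBound
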