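import Cfsg.Agent.Lib.Blocks.CountBound.Quotient
import Cfsg.Agent.Lib.Blocks.CountBound.Subsection
import Cfsg.Agent.Lib.Blocks.CyclicDefect.Main
import Cfsg.Agent.Lib.Blocks.CyclicDefect.Degrees

/-!
# A block over a cyclic quotient

For a central `p`-subgroup `Z` such that the dominated block has a cyclic defect group of order `n`
the regular part of the block is spanned by `e` vectors with Gram matrix `|Z| (I + r J)`, `e r + 1 = n`.
-/

set_option autoImplicit false
set_option linter.unusedSectionVars false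
set_option linter.style.haveILetI false

namespace Cfsg.Agent.Blocks.CountBound

open Cfsg Blocks
open Cfsg.Agent.BrauerPairs (regDot regDot_comm)
open Cfsg.Agent.Blocks.CyclicDefect
open scoped Classical ComplexConjugate

universe u

variable {G : Type u} [Group G] [Fintype G] {M : Ideal AlgInt} [M.IsMaximal] {p : ℕ}
  [hp : Fact p.Prime] {B : Set (IrrCharacter G)} (Z : Subgroup G) [Z.Normal]

/-- A cyclic defect block has at most as many members as its defect group. -/
theorem card_le_of_cyclic (hM : IsPModular p M) (hB : IsPBlock M B) {D : Subgroup G}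
    (hD : IsDefectGroup p M B D) (hcyc : IsCyclic D) (hne : D ≠ ⊥) : Nat.card B ≤ Nat.card D := by
  haveI := Blocks.charP_residue (p := p) hM.2.2
  obtain ⟨c, d⟩ := exists_datum hM hB hD hcyc hne
  obtain ⟨θ, -, -, ⟨S⟩⟩ := d.exists_shape
  rw [Nat.card_eq_fintype_card, Fintype.card_subtype, S.filter_eq, Finset.card_union_of_disjoint S.disj,
    S.card_X]
  have h1 := S.card_Y
  have h2 := S.nonempty_Y.card_pos
  have h3 := d.inIndex_pos
  obtain ⟨a, ha⟩ := Nat.exists_eq_add_of_le h2
  obtain ⟨e, he⟩ := Nat.exists_eq_add_of_le h3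
  rw [← h1, ha, he]
  nlinarith

variable (hZ : Z ≤ Subgroup.center G) (hZp : IsPGroup p Z)
include hZ hZp

theorem exists_gram (hM : IsPModular p M) (hB : IsPBlock M B) {D : Subgroup (G ⧸ Z)}
    (hD : IsDefectGroup p M (dominated Z B) D) (hcyc : IsCyclic D) (hne : D ≠ ⊥) :
    ∃ (e r : ℕ) (z : Fin e → IrrCharacter G → ℤ) (w : Fin e → IrrCharacter G → ℂ),
      0 < e ∧ e + r ≤ Nat.card D ∧
      (∀ η ∈ B, ∀ η' : IrrCharacter G, regDot p η.1 η'.1 = ∑ i, (z i η : ℂ) * w i η') ∧
      (∀ i, ∀ η ∈ B, (z i η : ℂ) =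
        ∑ η' ∈ Finset.univ.filter (· ∈ B), regDot p η.1 η'.1 * (z i η' : ℂ)) ∧
      (∀ i j, ∑ η ∈ Finset.univ.filter (· ∈ B), z i η * z j η =
        (Nat.card Z : ℤ) * ((if i = j then 1 else 0) + r)) := by
  haveI := Blocks.charP_residue (p := p) hM.2.2
  have hpM := hM.2.2
  letI : DecidableEq (G ⧸ Z) := fun a b => Classical.propDecidable (a = b)
  obtain ⟨c, d⟩ := exists_datum hM (isPBlock_dominated Z hZ hZp hpM hB) hD hcyc hne
  obtain ⟨θ, -, hθ, ⟨S⟩⟩ := d.exists_shape
  set e := S.X.card with hedef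
  set r := S.Y.card with hrdef
  set n := Nat.card D with hndef
  have hn : r * e + 1 = n := by rw [hedef, S.card_X]; exact S.card_Y
  let x : Fin e → IrrCharacter (G ⧸ Z) := fun i => (S.X.equivFin.symm i).1
  have hxX : ∀ i, x i ∈ S.X := fun i => (S.X.equivFin.symm i).2
  have hxinj : Function.Injective x := fun i j h => S.X.equivFin.symm.injective (Subtype.ext h)
  have hXsum : ∀ F : IrrCharacter (G ⧸ Z) → ℂ, ∑ ξ ∈ S.X, F ξ = ∑ i, F (x i) := fun F => by
    rw [← Finset.sum_coe_sort S.X F]
    exact (Equiv.sum_comp S.X.equivFin.symm fun ξ : S.X => F ξ.1).symm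
  have hXB : ∀ i, Char.inflate Z (x i) ∈ B := fun i => S.mem_X (hxX i)
  set s : Fin e → ℤ := fun i => S.sgn (x i) with hsdef
  have hs : ∀ i, (s i : ℂ) * s i = 1 := fun i => by
    rcases S.sgn_unit _ (hxX i) with h | h <;> simp [s, h]
  choose! nn hnn hnsum using fun η (hη : η ∈ B) => exists_regular_comb Z hZ hZp hpM hB hη
  let z : Fin e → IrrCharacter G → ℤ := fun i η =>
    s i * nn η (x i) - S.sgn₀ * ∑ ψ ∈ S.Y, nn η ψ
  have hz : ∀ η ∈ B, ∀ g : G, IsPRegular p g →
      η.1 g = ∑ i, (z i η : ℂ) * ((s i : ℂ) * (x i).1 (g : G ⧸ Z)) := by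
    intro η hη g hg
    have hq : ¬ p ∣ orderOf (g : G ⧸ Z) := isPRegular_mk_iff Z hZ hZp hg
    rw [hnsum η hη g hg, ← Finset.sum_filter_of_ne (p := fun ξ => ξ ∈ dominated Z B) fun ξ _ hne =>
      hnn η hη ξ fun h => hne (by rw [h, Int.cast_zero, zero_mul]), S.sum_block, hXsum]
    have hY : ∀ ψ ∈ S.Y, (nn η ψ : ℂ) * ψ.1 (g : G ⧸ Z) =
        (nn η ψ : ℂ) * (-(S.sgn₀ : ℂ) * ∑ i, (s i : ℂ) * (x i).1 (g : G ⧸ Z)) := fun ψ hψ => by
      have h := S.relation ψ hψ _ hq
      rw [hXsum] at h
      rcases S.sgn₀_unit with h0 | h0 <;> rw [h0] at h ⊢ <;> push_cast at h ⊢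
      · linear_combination (nn η ψ : ℂ) * h
      · linear_combination -(nn η ψ : ℂ) * h
    rw [Finset.sum_congr rfl hY, ← Finset.sum_mul, Finset.mul_sum, Finset.mul_sum,
      ← Finset.sum_add_distrib]
    refine Finset.sum_congr rfl fun i _ => ?_
    simp only [z]
    push_cast
    linear_combination -(nn η (x i) : ℂ) * (x i).1 (g : G ⧸ Z) * hs i
  let w : Fin e → IrrCharacter G → ℂ := fun i η =>
    (s i : ℂ) * regDot p (Char.inflate Z (x i)).1 η.1
  have hR : ∀ η ∈ B, ∀ η' : IrrCharacter G, regDot p η.1 η'.1 = ∑ i, (z i η : ℂ) * w i η' := by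
    intro η hη η'
    have he : Char.regFun p η.1 =
        ∑ i, ((z i η : ℂ) * s i) • Char.regFun p (Char.inflate Z (x i)).1 := by
      funext g
      simp only [Finset.sum_apply, Pi.smul_apply, smul_eq_mul, Char.regFun]
      split_ifs with hg
      · simp
      · rw [hz η hη g hg]
        exact Finset.sum_congr rfl fun i _ => by rw [Char.inflate_apply]; ring
    rw [regDot, he, Char.classInner_sum_left]
    refine Finset.sum_congr rfl fun i _ => ?_
    rw [Char.classInner_smul_left]
    simp only [w, regDot]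
    ring
  have hne0 : (n : ℂ) ≠ 0 := Nat.cast_ne_zero.2 (by omega)
  have he0 : (e : ℂ) ≠ 0 := by
    rw [Nat.cast_ne_zero, hedef, S.card_X]
    exact d.inIndex_pos.ne'
  have hnu : (Finset.univ.filter fun u : D => u ≠ 1).card = r * e := by
    rw [← Fintype.card_subtype, Fintype.card_subtype_compl, Fintype.card_subtype_eq,
      ← Nat.card_eq_fintype_card, ← hndef]
    omega
  have hm' : ∀ i j, (Nat.card Z : ℂ) * ((s j : ℂ) * w i (Char.inflate Z (x j))) =
      (if i = j then 1 else 0) - (r : ℂ) / n := by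
    intro i j
    have h := d.identity hθ ((S.mem_X (hxX i) : x i ∈ dominated Z B)) (x j)
    rw [← card_mul_regDot_inflate Z hZ hZp (x i) (x j), Finset.sum_congr rfl fun u hu => by
      rw [S.theta_X _ (hxX i) u (Finset.mem_filter.1 hu).2, S.theta_X _ (hxX j) u (Finset.mem_filter.1 hu).2],
      Finset.sum_const, hnu, nsmul_eq_mul, map_intCast, ← hndef, ← S.card_X, ← hedef] at h
    have h2 : (n : ℂ) * (if i = j then 1 else 0) = (n : ℂ) * ((Nat.card Z : ℂ) *
        regDot p (Char.inflate Z (x i)).1 (Char.inflate Z (x j)).1) + r * ((s i : ℂ) * s j) := by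
      refine mul_left_cancel₀ he0 ?_
      simp only [hxinj.eq_iff] at h
      push_cast at h
      simp only [s]
      linear_combination h
    simp only [w]
    generalize regDot p (Char.inflate Z (x i)).1 (Char.inflate Z (x j)).1 = R at h2 ⊢
    rw [eq_sub_iff_add_eq]
    refine mul_left_cancel₀ hne0 ?_
    rw [mul_add, mul_div_cancel₀ _ hne0]
    split_ifs at h2 ⊢ with hij
    · subst hij
      linear_combination ((n : ℂ) * (Nat.card Z : ℂ) * R) * hs i - h2 - (r : ℂ) * hs i
    · linear_combination -((s i : ℂ) * s j) * h2 - (r : ℂ) * ((s i : ℂ) * s i) * hs j -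
        (r : ℂ) * hs i
  have hinv : ∀ i k : Fin e, ((if i = k then 1 else 0) - (r : ℂ) / n) +
      r * ∑ l : Fin e, ((if l = k then 1 else 0) - (r : ℂ) / n) = if i = k then 1 else 0 := by
    intro i k
    rw [Finset.sum_sub_distrib, Finset.sum_ite_eq', if_pos (Finset.mem_univ _), Finset.sum_const,
      Finset.card_univ, Fintype.card_fin, nsmul_eq_mul]
    have : (r : ℂ) * e + 1 = n := by exact_mod_cast hn
    field_simp
    linear_combination -(r : ℂ) * this
  have hcomm : ∀ i, ∀ η, w i η = (s i : ℂ) * regDot p η.1 (Char.inflate Z (x i)).1 := fun i η => by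
    simp only [w]; rw [regDot_comm hp.out]
  have hzw : ∀ i, ∀ η ∈ B, (z i η : ℂ) = (Nat.card Z : ℂ) * (w i η + r * ∑ k, w k η) := by
    intro i η hη
    have h1 : ∀ k, (Nat.card Z : ℂ) * w k η =
        ∑ l, (z l η : ℂ) * ((if l = k then 1 else 0) - (r : ℂ) / n) := fun k => by
      rw [hcomm k, hR η hη, Finset.mul_sum, Finset.mul_sum]
      exact Finset.sum_congr rfl fun l _ => by rw [← hm' l k]; ring
    have h2 : (Nat.card Z : ℂ) * (w i η + r * ∑ k, w k η) = ∑ l, (z l η : ℂ) *
        (((if l = i then 1 else 0) - (r : ℂ) / n) +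
          r * ∑ k : Fin e, ((if l = k then 1 else 0) - (r : ℂ) / n)) := by
      simp only [mul_add, Finset.mul_sum, Finset.sum_add_distrib, ← h1 i]
      rw [Finset.sum_comm (γ := Fin e)]
      congr 1
      refine Finset.sum_congr rfl fun k _ => ?_
      rw [mul_left_comm, h1 k, Finset.mul_sum]
      exact Finset.sum_congr rfl fun l _ => by ring
    have hs2 : ∀ l : Fin e, ∑ k : Fin e, ((if l = k then (1 : ℂ) else 0) - (r : ℂ) / n) =
        ∑ k : Fin e, ((if k = i then (1 : ℂ) else 0) - (r : ℂ) / n) := fun l => by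
      simp only [Finset.sum_sub_distrib, Finset.sum_ite_eq, Finset.sum_ite_eq', Finset.mem_univ, if_true]
    simp only [h2, hs2, hinv, mul_ite, mul_one, mul_zero, Finset.sum_ite_eq', Finset.mem_univ, if_true]
  have hproj : ∀ i, ∀ η ∈ B,
      ∑ η' ∈ Finset.univ.filter (· ∈ B), regDot p η.1 η'.1 * w i η' = w i η := by
    intro i η hη
    rw [hcomm i η, ← Blocks.sum_regDot_mul_filter hpM hB hη (Char.inflate Z (x i)).1, Finset.mul_sum]
    exact Finset.sum_congr rfl fun η' _ => by rw [hcomm i η']; ring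
  refine ⟨e, r, z, w, Finset.card_pos.2 S.nonempty_X, ?_, hR, fun i η hη => ?_, fun i j => ?_⟩
  · have h2 := S.nonempty_Y.card_pos
    have h3 := S.nonempty_X.card_pos
    rw [← hrdef] at h2
    rw [← hedef] at h3
    obtain ⟨a, ha⟩ := Nat.exists_eq_add_of_le h2
    obtain ⟨a', ha'⟩ := Nat.exists_eq_add_of_le h3
    rw [← hn, ha, ha']
    nlinarith
  · rw [Finset.sum_congr rfl fun η' hη' => by rw [hzw i η' (Finset.mem_filter.1 hη').2], hzw i η hη]
    simp only [mul_add, Finset.mul_sum, Finset.sum_add_distrib]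
    congr 1
    · conv_lhs => rw [← hproj i η hη, Finset.mul_sum]
      exact Finset.sum_congr rfl fun η' _ => by ring
    · rw [Finset.sum_comm]
      refine Finset.sum_congr rfl fun k _ => ?_
      conv_lhs => rw [← hproj k η hη, Finset.mul_sum, Finset.mul_sum]
      exact Finset.sum_congr rfl fun η' _ => by ring
  · have hzk : ∀ k, ∑ η ∈ Finset.univ.filter (· ∈ B), (z i η : ℂ) * w k η =
        if i = k then 1 else 0 := by
      intro k
      have hww : ∀ l, (Nat.card Z : ℂ) * ∑ η ∈ Finset.univ.filter (· ∈ B), w l η * w k η =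
          (if l = k then 1 else 0) - (r : ℂ) / n := fun l => by
        rw [← hm' l k]
        congr 1
        simp only [w]
        rw [← Blocks.sum_regDot_mul_filter hpM hB (hXB l) (Char.inflate Z (x k)).1]
        simp only [Finset.mul_sum]
        refine Finset.sum_congr rfl fun η _ => ?_
        rw [regDot_comm hp.out (Char.inflate Z (x k)) η]
        ring
      rw [Finset.sum_congr rfl fun η hη => by rw [hzw i η (Finset.mem_filter.1 hη).2], ← hinv i k,
        ← hww i, Finset.sum_congr rfl fun l _ => (hww l).symm]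
      simp only [mul_add, add_mul, Finset.mul_sum, Finset.sum_mul, Finset.sum_add_distrib]
      rw [Finset.sum_comm (γ := Fin e)]
      congr 1
      · exact Finset.sum_congr rfl fun η _ => by ring
      · exact Finset.sum_congr rfl fun l _ => Finset.sum_congr rfl fun η _ => by ring
    refine Int.cast_injective (α := ℂ) ?_
    push_cast
    rw [Finset.sum_congr rfl fun η hη => by rw [hzw j η (Finset.mem_filter.1 hη).2]]
    simp only [mul_add, Finset.mul_sum, Finset.sum_add_distrib]
    congr 1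
    · rw [← hzk j, Finset.mul_sum]
      exact Finset.sum_congr rfl fun η _ => by ring
    · rw [Finset.sum_comm, Finset.sum_congr rfl fun k _ => show _ = (Nat.card Z : ℂ) * r * (if i = k then 1 else 0) by
        rw [← hzk k, Finset.mul_sum]
        exact Finset.sum_congr rfl fun η _ => by ring]
      simp

end Cfsg.Agent.Blocks.CountBound
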