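import Cfsg.Agent.Lib.Char.HeightZero

/-!
# The Brauer–Feit bound with heights
-/

set_option autoImplicit false

namespace Cfsg.Agent.Blocks.CountBound

open Cfsg Cfsg.Agent.Char Blocks
open scoped Classical ComplexConjugate

universe u

variable {G : Type u} [Group G] [Fintype G] {M : Ideal AlgInt} [M.IsMaximal] {p : ℕ} [hp : Fact p.Prime]

/-- `4 Σ p^(2 h(χ)) ≤ p^(2d) + 4`. -/
theorem four_mul_weight_le (hpM : (p : AlgInt) ∈ M) {B : Set (IrrCharacter G)} (hB : IsPBlock M B) :
    4 * ∑ ξ ∈ Finset.univ.filter (· ∈ B), p ^ (2 * blockHeight p B ξ.1) ≤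
      p ^ (2 * blockDefect p B) + 4 := by
  obtain ⟨χ, hχ, h0⟩ := Blocks.exists_height_zero hpM hB
  set a := (Nat.card G).factorization p with ha
  set b := sInf ((fun χ : IrrCharacter G => (charDegree χ.1).factorization p) '' B) with hb
  have hba : b ≤ a := by
    rw [hb, ← factorization_degree_of_height_zero hχ h0, ha]
    exact (Nat.factorization_le_iff_dvd (degree_pos χ).ne' Nat.card_pos.ne').2
      (degree_dvd_natCard χ) p
  choose N hN using fun ξ => exists_int_regInner (p := p) hp.out χ ξ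
  have hlow : ∀ ξ ∈ B, ((p : ℤ) ^ b) ^ 2 * (p : ℤ) ^ (2 * blockHeight p B ξ.1) ≤ N ξ ^ 2 := fun ξ hξ => by
    obtain ⟨v, hv⟩ := memLocalRing_n_div hpM hp.out (hN ξ)
    have hv0 : v ≠ 0 := fun h => ((blockHeight_eq_zero_iff_padicValInt hpM hp.out hB hχ hξ (hN ξ)).1 h0).1
      (by rw [hv, h, mul_zero])
    have he : (degree ξ).factorization p = b + blockHeight p B ξ.1 := by
      have := sInf_le_factorization_degree (p := p) hξ
      rw [blockHeight, Blocks.charDegree_eq, ← hb]
      omega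
    rw [hv, mul_pow, he, ← pow_mul, ← pow_add, ← pow_mul,
      show b * 2 + 2 * blockHeight p B ξ.1 = (b + blockHeight p B ξ.1) * 2 by ring]
    refine le_mul_of_one_le_right (pow_nonneg (Int.natCast_nonneg p) _) ?_
    exact Int.add_one_le_iff.2 (lt_of_le_of_ne (sq_nonneg v) (pow_ne_zero 2 hv0).symm)
  set f := ((p ^ a : ℕ) : ℂ) • regFun p χ.1 with hf
  have hfc : IsClassFunction G f := isClassFunction_of_mul_left (isClassFunction_regFun p
    (IsCharacter.isClassFunction (irr_isCharacter χ))) _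
  have hNf : ∀ ξ : IrrCharacter G, classInner f ξ.1 = N ξ := fun ξ => hN ξ
  have hid : (∑ ξ : IrrCharacter G, N ξ ^ 2) = (p : ℤ) ^ a * N χ := by
    have h1 : classInner f f = ((p ^ a : ℕ) : ℂ) * classInner f χ.1 := by
      simp only [classInner, Finset.mul_sum]
      refine Finset.sum_congr rfl fun g _ => ?_
      simp only [hf, Pi.smul_apply, smul_eq_mul, regFun]
      split_ifs
      · simp
      · simp only [map_mul, map_natCast]; ring
    have h2 : ∀ ξ : IrrCharacter G, classInner ξ.1 f = N ξ := fun ξ => by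
      have : classInner ξ.1 f = conj (classInner f ξ.1) := by
        simp only [classInner, map_mul, map_inv₀, map_natCast, map_sum, Complex.conj_conj]
        exact congrArg _ (Finset.sum_congr rfl fun g _ => mul_comm _ _)
      rw [this, hNf, map_intCast]
    rw [classInner_eq_sum hfc, hNf] at h1
    simp only [hNf, h2] at h1
    have h3 : ((∑ ξ : IrrCharacter G, N ξ ^ 2 : ℤ) : ℂ) = (((p : ℤ) ^ a * N χ : ℤ) : ℂ) := by
      push_cast at h1 ⊢
      simpa [sq] using h1
    exact_mod_cast h3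
  set Bf : Finset (IrrCharacter G) := Finset.univ.filter (· ∈ B) with hBf
  set Q := ∑ ξ ∈ Bf, (p : ℤ) ^ (2 * blockHeight p B ξ.1) with hQ
  have hsum : N χ ^ 2 + (Q - 1) * ((p : ℤ) ^ b) ^ 2 ≤ (p : ℤ) ^ a * N χ := by
    rw [← hid]
    have hmem : χ ∈ Bf := by simp [Bf, hχ]
    refine le_trans ?_ (Finset.sum_le_univ_sum_of_nonneg (s := Bf) fun ξ => sq_nonneg _)
    rw [← Finset.add_sum_erase _ _ hmem, hQ, ← Finset.add_sum_erase _ _ hmem, h0, mul_zero, pow_zero,
      add_sub_cancel_left, Finset.sum_mul]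
    refine add_le_add le_rfl (Finset.sum_le_sum fun ξ hξ => ?_)
    rw [mul_comm]
    exact hlow ξ (Finset.mem_filter.1 (Finset.mem_of_mem_erase hξ)).2
  have hpd : (p : ℤ) ^ a = (p : ℤ) ^ (a - b) * (p : ℤ) ^ b := by
    rw [← pow_add, Nat.sub_add_cancel hba]
  have hfin : 4 * (Q - 1) ≤ (p : ℤ) ^ (2 * (a - b)) := by
    refine le_of_mul_le_mul_right (a := ((p : ℤ) ^ b) ^ 2) ?_
      (pow_pos (pow_pos (by exact_mod_cast hp.out.pos) _) _)
    rw [pow_mul', ← mul_pow, ← hpd]
    nlinarith [sq_nonneg ((p : ℤ) ^ a - 2 * N χ), hsum, hpd]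
  show 4 * ∑ ξ ∈ Bf, p ^ (2 * blockHeight p B ξ.1) ≤ p ^ (2 * (a - b)) + 4
  zify
  linarith

end Cfsg.Agent.Blocks.CountBound
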