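import Cfsg.Agent.Lib.Blocks.CountBound.Gram
import Cfsg.Agent.Lib.Blocks.CountBound.Weight

/-!
# Bounds for the number of characters in a block

* abelian defect group on two generators: `k(B) ≤ |D|`;
* abelian defect group of rank three: `k(B)³ ≤ |D|⁵`;
* defect `d`: `k(B) ≤ p^d` for `d ≤ 2` and `k(B) ≤ p^(2d-2)` for `d ≥ 3`.
-/

set_option autoImplicit false
set_option linter.unusedSectionVars false
set_option linter.style.haveILetI false

namespace Cfsg.Agent.Blocks.CountBound

open Cfsg Blocks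
open Cfsg.Agent.BrauerPairs
open Cfsg.Agent.HeightBound (ctr)
open scoped Classical ComplexConjugate Cfsg.Agent.Blocks

universe u

/-- The differences of neighbours in `0, x_0, …, x_{e-1}, 0`. -/
def diff {e : ℕ} (l : Fin (e + 1)) (i : Fin e) : ℤ :=
  (if i.succ = l then 1 else 0) - (if i.castSucc = l then 1 else 0)

theorem sum_diff {e : ℕ} (i : Fin e) : ∑ l, diff l i = 0 := by
  simp [diff, Finset.sum_sub_distrib]

theorem sum_diff_sq {e : ℕ} (i : Fin e) : ∑ l, diff l i ^ 2 = 2 := by
  have h : ∀ l, diff l i ^ 2 =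
      (if i.succ = l then 1 else 0) + (if i.castSucc = l then 1 else 0) := fun l => by
    unfold diff
    by_cases h1 : i.succ = l
    · subst h1
      simp [(Fin.castSucc_lt_succ (i := i)).ne]
    · by_cases h2 : i.castSucc = l <;> simp [h1, h2]
  simp [h, Finset.sum_add_distrib]

theorem sum_diff_row {e : ℕ} (l : Fin (e + 1)) :
    ∑ i, diff l i = (if l = Fin.last e then 1 else 0) - (if l = 0 then 1 else 0) := by
  have h1 : ∑ i : Fin e, (if i.succ = l then (1 : ℤ) else 0) = 1 - if l = 0 then 1 else 0 := by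
    have := Fin.sum_univ_succ fun j : Fin (e + 1) => if j = l then (1 : ℤ) else 0
    rw [Finset.sum_ite_eq', if_pos (Finset.mem_univ _)] at this
    rw [show (if l = 0 then (1 : ℤ) else 0) = if (0 : Fin (e + 1)) = l then 1 else 0 by simp [eq_comm]]
    linarith
  have h2 : ∑ i : Fin e, (if i.castSucc = l then (1 : ℤ) else 0) =
      1 - if l = Fin.last e then 1 else 0 := by
    have := Fin.sum_univ_castSucc fun j : Fin (e + 1) => if j = l then (1 : ℤ) else 0
    rw [Finset.sum_ite_eq', if_pos (Finset.mem_univ _)] at this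
    rw [show (if l = Fin.last e then (1 : ℤ) else 0) = if Fin.last e = l then 1 else 0 by
      simp [eq_comm]]
    linarith
  simp only [diff, Finset.sum_sub_distrib, h1, h2]
  ring

theorem sum_diff_row_sq {e : ℕ} (he : 0 < e) : ∑ l : Fin (e + 1), (∑ i, diff l i) ^ 2 = 2 := by
  have hne : (0 : Fin (e + 1)) ≠ Fin.last e := fun h => by
    have := congrArg Fin.val h
    simp at this
    omega
  have h : ∀ l : Fin (e + 1), (∑ i, diff l i) ^ 2 =
      (if l = Fin.last e then 1 else 0) + (if l = 0 then 1 else 0) := fun l => by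
    rw [sum_diff_row]
    by_cases h1 : l = Fin.last e
    · subst h1; simp [hne.symm]
    · by_cases h2 : l = 0
      · subst h2; simp [hne, he.ne']
      · simp [h1, h2]
  simp [h, Finset.sum_add_distrib]

/-- The differences determine the vector. -/
theorem eq_zero_of_diff {e : ℕ} {T : Fin e → ℂ}
    (h : ∀ l : Fin (e + 1), ∑ i, (diff l i : ℂ) * T i = 0) (i : Fin e) : T i = 0 := by
  induction i using WellFoundedLT.induction with
  | _ i ih =>
    have h0 := h i.castSucc
    rw [Finset.sum_eq_single i (fun j _ hji => ?_) (by simp)] at h0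
    · have h1 : (diff i.castSucc i : ℂ) = -1 := by
        simp [diff, (Fin.castSucc_lt_succ (i := i)).ne']
      rw [h1, neg_one_mul, neg_eq_zero] at h0
      exact h0
    · by_cases hj : j.succ = i.castSucc
      · rw [ih j (by
          have := congrArg Fin.val hj
          simp at this
          exact Fin.lt_def.2 (by omega)), mul_zero]
      · simp [diff, hj, Fin.castSucc_inj, hji]

section

variable {G : Type u} [Group G] [Fintype G] {M : Ideal AlgInt} [M.IsMaximal] {p : ℕ}
  [hp : Fact p.Prime]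

/-- `exists_major_subsection` with the defect group of the local block. -/
theorem exists_major (hpM : (p : AlgInt) ∈ M) {B : Set (IrrCharacter G)} (hB : IsPBlock M B)
    {D : Subgroup G} (hD : IsDefectGroup p M B D) {u : G} (hu : u ∈ D) (huD : ∀ x ∈ D, x * u = u * x) :
    ∃ b : Set (IrrCharacter (Subgroup.centralizer ({u} : Set G))),
      IsInducedBlock M (Subgroup.centralizer ({u} : Set G)) b B ∧ blockDefect p b = blockDefect p B ∧
      IsDefectGroup p M b (D.subgroupOf (Subgroup.centralizer ({u} : Set G))) := by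
  haveI := Blocks.charP_residue (p := p) hpM
  have hblk := fun L : Subgroup G => hasBlocks M L
  have hBi := isBlockIdem_blkG hB
  obtain ⟨e, he⟩ := (isDefectGroup_iff_exists_isMax hB D).1 hD
  have hz : Subgroup.zpowers u ≤ D := Subgroup.zpowers_le.2 hu
  have hp' : IsPGroup p D := he.1.1.1
  have hC : Subgroup.centralizer (Subgroup.zpowers u : Set G) = Subgroup.centralizer ({u} : Set G) :=
    Blocks.centralizer_zpowers_eq
  have hDC : D ≤ Subgroup.centralizer ({u} : Set G) := fun x hx =>
    Subgroup.mem_centralizer_singleton_iff.2 (huD x hx)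
  obtain ⟨f, hf⟩ := exists_ple hblk he.1.1 _ hz
  have hfi : IsBlockIdem (Subgroup.centralizer ({u} : Set G)) f := hC ▸ (hf.isPair_left he.1.1).2
  obtain ⟨b, hb, hbf⟩ := exists_eq_blk _ hfi
  have hCN : Subgroup.centralizer ({u} : Set G) ≤ Subgroup.normalizer (Subgroup.zpowers u : Set G) :=
    hC.ge.trans (Subgroup.centralizer_le_normalizer _)
  obtain ⟨E, hE, hDE⟩ := exists_defectIn_centralizer hblk he.1.1 hf
  rw [hC] at hE hDE
  rw [inf_eq_left.2 hDC] at hDE
  obtain ⟨g, x, -, hx, -⟩ := exists_conj_of_step hblk hBi he hf hE.1 (hz.trans hDE)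
    ((hE.2.1.trans hC.ge).trans (centralizer_le_stabOf (hf.isPair_left he.1.1).2)) hE.2.2.1
  have h1 : Nat.card E ≤ Nat.card D := BrauerPairs.card_map_conj x E ▸ Subgroup.card_le_of_le hx.le
  have hdef : IsDefectGroup p M b (D.subgroupOf (Subgroup.centralizer ({u} : Set G))) :=
    (isDefectGroup_subgroupOf_iff hb hDC).2
      (by rw [hbf, Subgroup.eq_of_le_of_card_ge hDE h1]; exact hE)
  refine ⟨b, ?_, ?_, hdef⟩
  · refine (isInducedBlock_iff_br hpM (hp'.to_le hz) Blocks.zpowers_le_centralizer hC.le hCN hb hB).2 ?_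
    rw [hbf]
    exact ((ple_isPairOf_iff hBi hf).1 he.1).2
  · refine Nat.pow_right_injective hp.out.two_le ?_
    show p ^ blockDefect p b = p ^ blockDefect p B
    rw [← Blocks.card_defectGroup hpM hB hD, ← Blocks.card_defectGroup hpM hb hdef,
      Nat.card_congr (Subgroup.subgroupOfEquivOfLe hDC).toEquiv]

/-- A subsection with cyclic quotient bounds `k(B)` by `|Z| |D̄|`. -/
theorem card_le_of_cyclic_quotient (hM : IsPModular p M) {B : Set (IrrCharacter G)} {x : G}
    {C : Subgroup G} (hyC : x ∈ C)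
    (hC : ∀ t : ℕ, t.Coprime (Nat.card G) → C = Subgroup.centralizer ({x ^ t} : Set G))
    {k : ℕ} (hx : orderOf x = p ^ k) {b : Set (IrrCharacter C)} (hb : IsInducedBlock M C b B)
    (hd : blockDefect p b = blockDefect p B) (Z : Subgroup C) [Z.Normal]
    (hZ : Z ≤ Subgroup.center C) (hZp : IsPGroup p Z) {D : Subgroup (C ⧸ Z)}
    (hD : IsDefectGroup p M (dominated Z b) D) (hcyc : IsCyclic D) (hne : D ≠ ⊥) :
    Nat.card B ≤ Nat.card Z * Nat.card D := by
  obtain ⟨e, r, z, w, he, her, hR, hproj, hgram⟩ := exists_gram Z hZ hZp hM hb.1 hD hcyc hne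
  let F : Fin (e + 1) → IrrCharacter C → ℤ := fun l η => ∑ i, diff l i * z i η
  have hT : ∀ l (χ : G → ℂ), secVec C b x χ (fun η => (F l η : ℂ)) =
      ∑ i, (diff l i : ℂ) * secVec C b x χ (fun η => (z i η : ℂ)) := by
    intro l χ
    simp only [secVec, F, Int.cast_sum, Int.cast_mul, Finset.mul_sum]
    rw [Finset.sum_comm]
    exact Finset.sum_congr rfl fun i _ => Finset.sum_congr rfl fun η _ => by ring
  have hnorm : ∑ l, ∑ η ∈ Finset.univ.filter (· ∈ b), F l η ^ 2 =
      ((2 * Nat.card Z * (e + r) : ℕ) : ℤ) := by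
    have hl : ∀ l, ∑ η ∈ Finset.univ.filter (· ∈ b), F l η ^ 2 =
        (Nat.card Z : ℤ) * ((∑ i, diff l i ^ 2) + r * (∑ i, diff l i) ^ 2) := by
      intro l
      calc _ = ∑ i, ∑ j, diff l i * diff l j *
            ∑ η ∈ Finset.univ.filter (· ∈ b), z i η * z j η := by
            simp only [F, pow_two, Finset.sum_mul]
            simp only [Finset.mul_sum]
            rw [Finset.sum_comm]
            refine Finset.sum_congr rfl fun i _ => ?_
            rw [Finset.sum_comm]
            exact Finset.sum_congr rfl fun j _ => Finset.sum_congr rfl fun η _ => by ring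
        _ = _ := by
            simp only [hgram, mul_add, mul_ite, mul_one, mul_zero, Finset.sum_add_distrib,
              Finset.sum_ite_eq, Finset.mem_univ, if_true, pow_two, Finset.mul_sum, Finset.sum_mul]
            congr 1
            · exact Finset.sum_congr rfl fun i _ => by ring
            · refine Finset.sum_congr rfl fun i _ => Finset.sum_congr rfl fun j _ => by ring
    rw [Finset.sum_congr rfl fun l _ => hl l, ← Finset.mul_sum, Finset.sum_add_distrib,
      Finset.sum_comm, Finset.sum_congr rfl fun i _ => sum_diff_sq i, ← Finset.mul_sum,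
      sum_diff_row_sq he]
    simp
    ring
  have hr2 : ∀ χ ∈ B, 2 ≤ (Finset.univ.filter fun l =>
      secVec C b x χ.1 (fun η => (F l η : ℂ)) ≠ 0).card := by
    intro χ hχ
    by_contra hlt
    set S := fun l => secVec C b x χ.1 (fun η => (F l η : ℂ)) with hS
    have hsum : ∑ l, S l = 0 := by
      simp only [S, hT]
      rw [Finset.sum_comm]
      refine Finset.sum_eq_zero fun i _ => ?_
      rw [← Finset.sum_mul, ← Int.cast_sum, sum_diff, Int.cast_zero, zero_mul]
    have hall : ∀ l, S l = 0 := by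
      intro l
      by_contra hl
      refine hl ?_
      rw [← hsum]
      symm
      refine Finset.sum_eq_single l (fun l' _ hne => ?_) (by simp)
      by_contra hl'
      exact hlt (Finset.one_lt_card.2 ⟨l', by simpa [S] using hl', l, by simpa [S] using hl, hne⟩)
    have hz0 : ∀ i, secVec C b x χ.1 (fun η => (z i η : ℂ)) = 0 :=
      fun i => eq_zero_of_diff (fun l => by rw [← hT]; exact hall l) i
    refine (HeightBound.ctr_facts hM.2.2 (hC_one hyC hC) hx hb χ).2.2.2 hd hχ ?_
    exact ctr_eq_zero_of_part_eq_zero (hC_one hyC hC) hM.2.2 hb.1 χ Finset.univ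
      (fun i η => w i η) (fun i η => (z i η : ℂ)) (fun η hη η' hη' => hR η' hη' η) fun i _ => hz0 i
  have hF : ∀ l, ∀ η ∈ b, (F l η : ℂ) =
      ∑ η' ∈ Finset.univ.filter (· ∈ b), regDot p η.1 η'.1 * (F l η' : ℂ) := by
    intro l η hη
    simp only [F, Int.cast_sum, Int.cast_mul, Finset.mul_sum]
    rw [Finset.sum_comm]
    refine Finset.sum_congr rfl fun i _ => ?_
    conv_lhs => rw [hproj i η hη, Finset.mul_sum]
    exact Finset.sum_congr rfl fun η' _ => by ring
  have h := card_mul_le_of_forms hyC hC hM.2.2 hx hb F hF hnorm 2 hr2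
  have h2 := Nat.mul_le_mul_left (2 * Nat.card Z) her
  nlinarith

theorem four_mul_card_le (hpM : (p : AlgInt) ∈ M) {B : Set (IrrCharacter G)} (hB : IsPBlock M B) :
    4 * Nat.card B ≤ p ^ (2 * blockDefect p B) + 4 :=
  Char.four_mul_card_block_le hpM hp.out hB

/-- A block with a cyclic defect group. -/
theorem card_le_of_cyclic' (hM : IsPModular p M) {B : Set (IrrCharacter G)} (hB : IsPBlock M B)
    {D : Subgroup G} (hD : IsDefectGroup p M B D) (hcyc : IsCyclic D) : Nat.card B ≤ Nat.card D := by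
  by_cases hne : D = ⊥
  · have h := four_mul_card_le hM.2.2 hB
    have h1 := Blocks.card_defectGroup hM.2.2 hB hD
    rw [hne, Subgroup.card_bot] at h1
    rw [pow_mul', ← h1] at h
    rw [hne, Subgroup.card_bot]
    omega
  · exact card_le_of_cyclic hM hB hD hcyc hne

theorem map_mk_le_closure {C : Subgroup G} (Z : Subgroup C) [Z.Normal] {u : C} (hu : u ∈ Z) (S : Set C)
    {D : Subgroup G} (hD : D ≤ Subgroup.closure (insert (u : G) (Subtype.val '' S))) :
    (D.subgroupOf C).map (QuotientGroup.mk' Z) ≤ Subgroup.closure (QuotientGroup.mk' Z '' S) := by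
  rw [Subgroup.map_le_iff_le_comap]
  intro x hx
  have h : (x : G) ∈ (Subgroup.closure (insert u S)).map C.subtype := by
    rw [MonoidHom.map_closure, Set.image_insert_eq]
    exact hD (Subgroup.mem_subgroupOf.1 hx)
  obtain ⟨y, hy, hyx⟩ := Subgroup.mem_map.1 h
  rw [← Subtype.ext (a1 := y) (a2 := x) hyx]
  refine (Subgroup.closure_le _).2 ?_ hy
  rintro z (rfl | hz)
  · rw [SetLike.mem_coe, Subgroup.mem_comap, QuotientGroup.mk'_apply,
      (QuotientGroup.eq_one_iff _).2 hu]
    exact one_mem _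
  · exact Subgroup.mem_comap.2 (Subgroup.subset_closure ⟨z, hz, rfl⟩)

theorem card_map_mul_card {C : Subgroup G} (hpM : (p : AlgInt) ∈ M) {b : Set (IrrCharacter C)}
    (hb : IsPBlock M b) {D : Subgroup G} (hDC : D ≤ C)
    (hdef : IsDefectGroup p M b (D.subgroupOf C)) (Z : Subgroup C) [Z.Normal]
    (hZ : Z ≤ Subgroup.center C) (hZp : IsPGroup p Z) :
    Nat.card ((D.subgroupOf C).map (QuotientGroup.mk' Z)) * Nat.card Z = Nat.card D := by
  rw [card_map_mul Z hZ hZp hpM hb hdef, Nat.card_congr (Subgroup.subgroupOfEquivOfLe hDC).toEquiv]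

/-- An abelian defect group on two generators. -/
theorem card_le_of_two_generators (hM : IsPModular p M) {B : Set (IrrCharacter G)} (hB : IsPBlock M B)
    {D : Subgroup G} (hD : IsDefectGroup p M B D) (hab : ∀ x ∈ D, ∀ y ∈ D, x * y = y * x)
    {u v : G} (hu : u ∈ D) (hv : v ∈ D) (huv : D ≤ Subgroup.closure {u, v}) :
    Nat.card B ≤ Nat.card D := by
  by_cases hcycD : IsCyclic D
  · exact card_le_of_cyclic' hM hB hD hcycD
  have hpM := hM.2.2
  obtain ⟨b, hb, hd, hdef⟩ := exists_major hpM hB hD hu fun x hx => hab x hx u hu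
  have huC : u ∈ (Subgroup.centralizer ({u} : Set G)) := Subgroup.mem_centralizer_singleton_iff.2 rfl
  have hDC : D ≤ (Subgroup.centralizer ({u} : Set G)) := fun x hx => Subgroup.mem_centralizer_singleton_iff.2 (hab x hx u hu)
  set Z := Subgroup.zpowers (⟨u, huC⟩ : (Subgroup.centralizer ({u} : Set G))) with hZdef
  have hZ : Z ≤ Subgroup.center (Subgroup.centralizer ({u} : Set G)) := Subgroup.zpowers_le.2 (Subgroup.mem_center_iff.2 fun g =>
    Subtype.ext (Subgroup.mem_centralizer_singleton_iff.1 g.2))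
  haveI : Z.Normal := ⟨fun n hn g => by rwa [Subgroup.mem_center_iff.1 (hZ hn) g, mul_inv_cancel_right]⟩
  obtain ⟨k, hk⟩ : ∃ k, orderOf u = p ^ k := by
    obtain ⟨k, hk⟩ := IsPGroup.iff_orderOf.1 (IsPGroup.of_card (Blocks.card_defectGroup hpM hB hD))
      ⟨u, hu⟩
    exact ⟨k, by simpa using hk⟩
  have hcardZ : Nat.card Z = p ^ k := by rw [Nat.card_zpowers, Subgroup.orderOf_mk, hk]
  have hZp : IsPGroup p Z := IsPGroup.of_card hcardZ
  have hcard := card_map_mul_card hpM hb.1 hDC hdef Z hZ hZp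
  set Db := (D.subgroupOf (Subgroup.centralizer ({u} : Set G))).map (QuotientGroup.mk' Z) with hDb
  have hcyc : IsCyclic Db := by
    have hle : Db ≤ Subgroup.zpowers (QuotientGroup.mk' Z ⟨v, hDC hv⟩) := by
      refine (map_mk_le_closure Z (Subgroup.mem_zpowers _) {(⟨v, hDC hv⟩ : (Subgroup.centralizer ({u} : Set G)))} ?_).trans ?_
      · rwa [Set.image_singleton]
      · rw [Set.image_singleton, ← Subgroup.zpowers_eq_closure]
    exact isCyclic_of_injective (Subgroup.inclusion hle) (Subgroup.inclusion_injective hle)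
  have hne : Db ≠ ⊥ := fun h => hcycD (by
    rw [h, Subgroup.card_bot, one_mul] at hcard
    have he : Subgroup.zpowers u = D := Subgroup.eq_of_le_of_card_ge (Subgroup.zpowers_le.2 hu) (by
      rw [Nat.card_zpowers, hk, ← hcardZ, hcard])
    rw [← he]; infer_instance)
  have h := card_le_of_cyclic_quotient hM huC (fun t ht => centralizer_pow ht) hk hb hd Z hZ hZp
    (isDefectGroup_dominated Z hZ hZp hpM hb.1 hdef) hcyc hne
  rwa [mul_comm, hcard] at h

theorem card_le_of_defect_le_two (hM : IsPModular p M) {B : Set (IrrCharacter G)} (hB : IsPBlock M B)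
    (hd : blockDefect p B ≤ 2) : Nat.card B ≤ p ^ blockDefect p B := by
  haveI := Blocks.charP_residue (p := p) hM.2.2
  obtain ⟨χ, hχ⟩ := nonempty_of_isPBlock hB
  obtain ⟨D, hD⟩ := Blocks.exists_defectGroup (p := p) hB
  have hcard := Blocks.card_defectGroup hM.2.2 hB hD
  rw [← hcard]
  by_cases hcyc : IsCyclic D
  · exact card_le_of_cyclic' hM hB hD hcyc
  have hd2 : blockDefect p B = 2 := by
    by_contra hne
    refine hcyc ?_
    rcases Nat.lt_or_ge (blockDefect p B) 1 with h | h
    · rw [Nat.lt_one_iff.1 h, pow_zero] at hcard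
      haveI : Subsingleton D := (Nat.card_eq_one_iff_unique.1 hcard).1
      infer_instance
    · rw [show blockDefect p B = 1 by omega, pow_one] at hcard
      exact isCyclic_of_prime_card hcard
  rw [hd2] at hcard
  have hab : ∀ x ∈ D, ∀ y ∈ D, x * y = y * x := fun x hx y hy =>
    congrArg Subtype.val (IsPGroup.commutative_of_card_eq_prime_sq hcard ⟨x, hx⟩ ⟨y, hy⟩)
  obtain ⟨u, hu, hu1⟩ : ∃ u ∈ D, u ≠ (1 : G) := by
    by_contra! h
    rw [(Subgroup.eq_bot_iff_forall D).2 h, Subgroup.card_bot] at hcard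
    exact absurd hcard.symm (Nat.one_lt_pow two_ne_zero hp.out.one_lt).ne'
  obtain ⟨v, hv, hvu⟩ : ∃ v ∈ D, v ∉ Subgroup.zpowers u := by
    by_contra! h
    refine hcyc ?_
    rw [← le_antisymm (Subgroup.zpowers_le.2 hu) h]
    infer_instance
  refine card_le_of_two_generators hM hB hD hab hu hv ?_
  set K := Subgroup.closure ({u, v} : Set G) with hK
  have hle : K ≤ D := (Subgroup.closure_le _).2 (Set.pair_subset hu hv)
  refine (Subgroup.eq_of_le_of_card_ge hle ?_).ge
  obtain ⟨i, hi, hKi⟩ := (Nat.dvd_prime_pow hp.out).1 (hcard ▸ Subgroup.card_dvd_of_le hle)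
  rcases (show i = 2 ∨ i ≤ 1 by omega) with rfl | hi1
  · rw [hcard, hKi]
  · exfalso
    have huK : Subgroup.zpowers u ≤ K := Subgroup.zpowers_le.2 (Subgroup.subset_closure (Or.inl rfl))
    refine hvu ((Subgroup.eq_of_le_of_card_ge huK ?_).ge (Subgroup.subset_closure (Or.inr rfl)))
    rw [hKi, Nat.card_zpowers]
    obtain ⟨j, -, hj⟩ := (Nat.dvd_prime_pow hp.out).1 (hcard ▸
      (orderOf_submonoid (⟨u, hu⟩ : D) ▸ orderOf_dvd_natCard (⟨u, hu⟩ : D)))
    rw [hj]
    refine (Nat.pow_le_pow_right hp.out.pos hi1).trans (Nat.pow_le_pow_right hp.out.pos ?_)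
    refine Nat.one_le_iff_ne_zero.2 fun hj0 => hu1 ?_
    rwa [hj0, pow_zero, orderOf_eq_one_iff] at hj

/-- An abelian defect group on three generators. -/
theorem card_cube_le (hM : IsPModular p M) {B : Set (IrrCharacter G)} (hB : IsPBlock M B)
    {D : Subgroup G} (hD : IsDefectGroup p M B D) (hab : IsMulCommutative D)
    (hr : Group.rank D = 3) : Nat.card B ^ 3 ≤ Nat.card D ^ 5 := by
  have hpM := hM.2.2
  have hcomm : ∀ x ∈ D, ∀ y ∈ D, x * y = y * x := fun x hx y hy =>
    congrArg Subtype.val (hab.is_comm.comm ⟨x, hx⟩ ⟨y, hy⟩)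
  have hcardD := Blocks.card_defectGroup hpM hB hD
  obtain ⟨S, hS3, hS⟩ := Group.rank_spec D
  rw [hr] at hS3
  obtain ⟨u₀, hu₀, hmax⟩ := S.exists_max_image (fun x => orderOf x) (Finset.card_pos.1 (by omega))
  obtain ⟨v₀, w₀, -, hvw⟩ := Finset.card_eq_two.1
    (show (S.erase u₀).card = 2 by rw [Finset.card_erase_of_mem hu₀]; omega)
  obtain ⟨c, hc⟩ := IsPGroup.iff_orderOf.1 (IsPGroup.of_card hcardD) u₀
  -- `|D| ∣ p^(3c)`
  have hexp : Nat.card D ∣ (p ^ c) ^ 3 := by
    letI : CommGroup D := { (inferInstance : Group D) with mul_comm := hab.is_comm.comm }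
    refine hr ▸ (card_dvd_exponent_pow_rank D).trans (pow_dvd_pow_of_dvd ?_ _)
    refine Monoid.exponent_dvd_of_forall_pow_eq_one fun x => ?_
    have hx : x ∈ Subgroup.closure (S : Set D) := hS ▸ Subgroup.mem_top x
    induction hx using Subgroup.closure_induction with
    | mem y hy =>
      obtain ⟨j, hj⟩ := IsPGroup.iff_orderOf.1 (IsPGroup.of_card hcardD) y
      refine orderOf_dvd_iff_pow_eq_one.1 (hj ▸ pow_dvd_pow p ?_)
      have h := hmax y hy
      rw [hj, hc] at h
      exact (Nat.pow_le_pow_iff_right hp.out.one_lt).1 h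
    | one => exact one_pow _
    | mul a b _ _ ha hb => rw [mul_pow, ha, hb, one_mul]
    | inv a _ ha => rw [inv_pow, ha, inv_one]
  obtain ⟨u, hudef⟩ : ∃ u : G, u = (u₀ : G) := ⟨_, rfl⟩
  have hu : u ∈ D := hudef ▸ u₀.2
  obtain ⟨b, hb, hd, hdef⟩ := exists_major hpM hB hD hu fun x hx => hcomm x hx u hu
  have huC : u ∈ (Subgroup.centralizer ({u} : Set G)) := Subgroup.mem_centralizer_singleton_iff.2 rfl
  have hDC : D ≤ (Subgroup.centralizer ({u} : Set G)) := fun x hx => Subgroup.mem_centralizer_singleton_iff.2 (hcomm x hx u hu)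
  set Z := Subgroup.zpowers (⟨u, huC⟩ : (Subgroup.centralizer ({u} : Set G))) with hZdef
  have hZ : Z ≤ Subgroup.center (Subgroup.centralizer ({u} : Set G)) := Subgroup.zpowers_le.2 (Subgroup.mem_center_iff.2 fun g =>
    Subtype.ext (Subgroup.mem_centralizer_singleton_iff.1 g.2))
  haveI : Z.Normal := ⟨fun n hn g => by rwa [Subgroup.mem_center_iff.1 (hZ hn) g, mul_inv_cancel_right]⟩
  have hk : orderOf u = p ^ c := by rw [← hc, hudef, Subgroup.orderOf_coe]
  have hcardZ : Nat.card Z = p ^ c := by rw [Nat.card_zpowers, Subgroup.orderOf_mk, hk]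
  have hZp : IsPGroup p Z := IsPGroup.of_card hcardZ
  have hcard := card_map_mul_card hpM hb.1 hDC hdef Z hZ hZp
  set Db := (D.subgroupOf (Subgroup.centralizer ({u} : Set G))).map (QuotientGroup.mk' Z) with hDb
  have hgen : Db ≤ Subgroup.closure
      {QuotientGroup.mk' Z ⟨v₀, hDC v₀.2⟩, QuotientGroup.mk' Z ⟨w₀, hDC w₀.2⟩} := by
    refine (map_mk_le_closure Z (Subgroup.mem_zpowers _)
      {(⟨v₀, hDC v₀.2⟩ : (Subgroup.centralizer ({u} : Set G))), ⟨w₀, hDC w₀.2⟩} ?_).trans ?_
    · intro x hx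
      have h : (x : G) ∈ (Subgroup.closure (S : Set D)).map D.subtype := by
        rw [hS]; exact ⟨⟨x, hx⟩, trivial, rfl⟩
      rw [MonoidHom.map_closure] at h
      refine Subgroup.closure_mono ?_ h
      rintro y ⟨s, hs, rfl⟩
      by_cases he : s = u₀
      · exact Or.inl (by rw [he]; exact hudef.symm)
      · have h2 : s ∈ S.erase u₀ := Finset.mem_erase.2 ⟨he, hs⟩
        rw [hvw, Finset.mem_insert, Finset.mem_singleton] at h2
        right
        rcases h2 with rfl | rfl
        · exact ⟨⟨s, hDC s.2⟩, Or.inl rfl, rfl⟩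
        · exact ⟨⟨s, hDC s.2⟩, Or.inr rfl, rfl⟩
    · rw [Set.image_insert_eq, Set.image_singleton]
  have habD : ∀ x ∈ Db, ∀ y ∈ Db, x * y = y * x := by
    intro x hx y hy
    obtain ⟨a, ha, rfl⟩ := Subgroup.mem_map.1 hx
    obtain ⟨a', ha', rfl⟩ := Subgroup.mem_map.1 hy
    rw [← map_mul, ← map_mul]
    exact congrArg _ (Subtype.ext (hcomm _ (Subgroup.mem_subgroupOf.1 ha) _ (Subgroup.mem_subgroupOf.1 ha')))
  have hdom := isPBlock_dominated Z hZ hZp hpM hb.1
  have hL : blockRank p b ≤ Nat.card Db := (blockRank_le_card Z hZ hZp hpM hb.1).trans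
    (card_le_of_two_generators hM hdom (isDefectGroup_dominated Z hZ hZp hpM hb.1 hdef) habD
      ⟨_, v₀.2, rfl⟩ ⟨_, w₀.2, rfl⟩ hgen)
  have hk1 : Nat.card B ≤ Nat.card D * Nat.card Db := by
    rw [hcardD]
    exact (card_le_pow_mul_rank huC (fun t ht => centralizer_pow ht) hpM hk hb hd).trans
      (Nat.mul_le_mul_left _ hL)
  have h1 : Nat.card B * p ^ c ≤ Nat.card D ^ 2 :=
    (Nat.mul_le_mul_right _ hk1).trans_eq (by rw [← hcardZ, mul_assoc, hcard, pow_two])
  have h2 := Nat.pow_le_pow_left h1 3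
  rw [mul_pow] at h2
  have h3 : Nat.card D ≤ (p ^ c) ^ 3 := Nat.le_of_dvd (pow_pos (pow_pos hp.out.pos _) _) hexp
  refine Nat.le_of_mul_le_mul_right ((Nat.mul_le_mul_left (Nat.card B ^ 3) h3).trans (h2.trans_eq ?_))
    (Nat.card_pos (α := D))
  ring

end

variable {p : ℕ} [hp : Fact p.Prime] {M : Ideal AlgInt} [M.IsMaximal]

/-- `k(B) ≤ p^(2d-2)` for `d ≥ 3`. -/
theorem card_le_pow_defect (hM : IsPModular p M) (d : ℕ) :
    ∀ {G : Type u} [Group G] [Fintype G] {B : Set (IrrCharacter G)}, IsPBlock M B →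
      blockDefect p B = d → Nat.card B ≤ if d ≤ 2 then p ^ d else p ^ (2 * d - 2) := by
  induction d with
  | zero =>
    intro G _ _ B hB hd
    rw [if_pos (by omega)]
    exact hd ▸ card_le_of_defect_le_two hM hB (by omega)
  | succ d ih =>
    intro G _ _ B hB hd
    by_cases hd2 : d + 1 ≤ 2
    · rw [if_pos hd2]
      exact hd ▸ card_le_of_defect_le_two hM hB (by omega)
    rw [if_neg hd2]
    have hpM := hM.2.2
    haveI := Blocks.charP_residue (p := p) hpM
    obtain ⟨D, hD⟩ := Blocks.exists_defectGroup (p := p) hB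
    have hcardD := Blocks.card_defectGroup hpM hB hD
    rw [hd] at hcardD
    have hDp : IsPGroup p D := IsPGroup.of_card hcardD
    haveI : Nontrivial D := Finite.one_lt_card_iff_nontrivial.1
      (hcardD ▸ Nat.one_lt_pow (by omega) hp.out.one_lt)
    haveI : Nontrivial (Subgroup.center D) := hDp.center_nontrivial
    obtain ⟨z, hz⟩ := exists_prime_orderOf_dvd_card' (G := Subgroup.center D) p (by
      obtain ⟨n, hn⟩ := IsPGroup.iff_card.1 (hDp.to_subgroup (Subgroup.center D))
      rw [hn]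
      refine dvd_pow_self p fun h0 => ?_
      rw [h0, pow_zero] at hn
      exact absurd hn Finite.one_lt_card.ne')
    set u := ((z : D) : G) with hudef
    have hu : u ∈ D := (z : D).2
    have huD : ∀ x ∈ D, x * u = u * x := fun x hx =>
      congrArg Subtype.val (Subgroup.mem_center_iff.1 z.2 ⟨x, hx⟩)
    have hk : orderOf u = p ^ 1 := by
      rw [pow_one, hudef, Subgroup.orderOf_coe, Subgroup.orderOf_coe, hz]
    obtain ⟨b, hb, hdb, hdef⟩ := exists_major hpM hB hD hu huD
    have huC : u ∈ (Subgroup.centralizer ({u} : Set G)) := Subgroup.mem_centralizer_singleton_iff.2 rfl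
    have hDC : D ≤ (Subgroup.centralizer ({u} : Set G)) := fun x hx => Subgroup.mem_centralizer_singleton_iff.2 (huD x hx)
    set Z := Subgroup.zpowers (⟨u, huC⟩ : (Subgroup.centralizer ({u} : Set G))) with hZdef
    have hZ : Z ≤ Subgroup.center (Subgroup.centralizer ({u} : Set G)) := Subgroup.zpowers_le.2 (Subgroup.mem_center_iff.2 fun g =>
      Subtype.ext (Subgroup.mem_centralizer_singleton_iff.1 g.2))
    haveI : Z.Normal := ⟨fun n hn g => by rwa [Subgroup.mem_center_iff.1 (hZ hn) g, mul_inv_cancel_right]⟩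
    have hcardZ : Nat.card Z = p ^ 1 := by rw [Nat.card_zpowers, Subgroup.orderOf_mk, hk]
    have hZp : IsPGroup p Z := IsPGroup.of_card hcardZ
    have hcard := card_map_mul_card hpM hb.1 hDC hdef Z hZ hZp
    have hdom := isPBlock_dominated Z hZ hZp hpM hb.1
    have hdd : blockDefect p (dominated Z b) = d := by
      rw [Blocks.card_defectGroup hpM hdom (isDefectGroup_dominated Z hZ hZp hpM hb.1 hdef), hcardZ,
        hcardD, ← pow_add] at hcard
      have := Nat.pow_right_injective hp.out.two_le hcard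
      omega
    have hL : blockRank p b ≤ p ^ (2 * (d + 1) - 4) := by
      refine (blockRank_le_card Z hZ hZp hpM hb.1).trans ((ih hdom hdd).trans ?_)
      split_ifs with h
      · exact Nat.pow_le_pow_right hp.out.pos (by omega)
      · exact Nat.pow_le_pow_right hp.out.pos (by omega)
    have hhw := card_height_zero_mul_weight_le huC (fun t ht => centralizer_pow ht) hpM hk hb hdb
    have h4 := four_mul_weight_le hpM hB
    set q := (Finset.univ.filter fun χ : IrrCharacter G => χ ∈ B ∧ blockHeight p B χ.1 = 0).card with hq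
    set S := Finset.univ.filter (fun χ : IrrCharacter G => χ ∈ B) with hS
    have hR : Nat.card B = S.card := by rw [Nat.card_eq_fintype_card, Fintype.card_subtype]
    have hqR : q ≤ S.card := Finset.card_le_card fun χ hχ =>
      Finset.mem_filter.2 ⟨Finset.mem_univ _, (Finset.mem_filter.1 hχ).2.1⟩
    have hQ : q + p ^ 2 * (S.card - q) ≤ ∑ χ ∈ S, p ^ (2 * blockHeight p B χ.1) := by
      rw [← Finset.sum_filter_add_sum_filter_not S (fun χ => blockHeight p B χ.1 = 0)]
      have e1 : S.filter (fun χ => blockHeight p B χ.1 = 0) =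
          Finset.univ.filter fun χ : IrrCharacter G => χ ∈ B ∧ blockHeight p B χ.1 = 0 := by
        rw [hS, Finset.filter_filter]
      refine add_le_add ?_ ?_
      · rw [Finset.sum_congr rfl fun χ hχ => by rw [(Finset.mem_filter.1 hχ).2, mul_zero, pow_zero],
          Finset.sum_const, smul_eq_mul, mul_one, e1]
      · have h2 := Finset.card_filter_add_card_filter_not (s := S) (fun χ => blockHeight p B χ.1 = 0)
        rw [e1, ← hq] at h2
        calc p ^ 2 * (S.card - q) = ∑ χ ∈ S.filter (fun χ => ¬ blockHeight p B χ.1 = 0), p ^ 2 := by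
              rw [Finset.sum_const, smul_eq_mul, mul_comm]
              congr 1
              omega
          _ ≤ _ := Finset.sum_le_sum fun χ hχ => Nat.pow_le_pow_right hp.out.pos (by
              have := (Finset.mem_filter.1 hχ).2; omega)
    obtain ⟨χ₀, hχ₀, hχ₀0⟩ := Blocks.exists_height_zero hpM hB
    have hq1 : 1 ≤ q := Finset.card_pos.2 ⟨χ₀, Finset.mem_filter.2 ⟨Finset.mem_univ _, hχ₀, hχ₀0⟩⟩
    rw [hR]
    set T := p ^ (2 * (d + 1) - 2) with hT
    have hP : p ^ (2 * (d + 1)) = p ^ 2 * T := by rw [hT, ← pow_add]; congr 1; omega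
    have hTT : p ^ (2 * (d + 1)) * p ^ (2 * (d + 1) - 4) = T * T := by
      rw [hT, ← pow_add, ← pow_add]; congr 1; omega
    rw [hd, hP] at h4
    rw [hd] at hhw
    have h5 : q * (q + p ^ 2 * (S.card - q)) ≤ T * T :=
      (Nat.mul_le_mul_left q hQ).trans (hhw.trans ((Nat.mul_le_mul_left _ hL).trans hTT.le))
    have h6 : 4 * (q + p ^ 2 * (S.card - q)) ≤ p ^ 2 * T + 4 :=
      (Nat.mul_le_mul_left 4 hQ).trans h4
    have h7 : p ^ 2 * (4 * (S.card - q)) ≤ p ^ 2 * T := by
      have : 4 * (p ^ 2 * (S.card - q)) ≤ p ^ 2 * T := by omega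
      rwa [mul_left_comm]
    have h8 := Nat.le_of_mul_le_mul_left h7 (pow_pos hp.out.pos 2)
    have h9 : 4 * (S.card - q) ≤ p ^ 2 * (S.card - q) :=
      Nat.mul_le_mul_right _ (le_trans (by norm_num) (Nat.pow_le_pow_left hp.out.two_le 2))
    by_contra hlt
    obtain ⟨t, ht⟩ := Nat.exists_eq_add_of_le hqR
    rw [ht, Nat.add_sub_cancel_left] at h8 h9 h5
    rw [ht] at hlt
    have h10 : t ≤ 2 * q := by omega
    nlinarith [Nat.mul_le_mul_left q h9, Nat.mul_le_mul_left t h10]

end Cfsg.Agent.Blocks.CountBound
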