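import Cfsg.Agent.Lib.BlocksX.Quotient
import Cfsg.Agent.Lib.BlocksX.Normal
import Cfsg.Agent.Lib.Blocks.NilpotentRank.RegCombination

/-!
# The block of the quotient by a central `p`-subgroup

For a central `p`-subgroup `Z` the inflations inside a block `B` form one block of `G ⧸ Z`, with
the images of the defect groups as defect groups; on the `p`-regular elements every member of `B` is
an integral combination of them.
-/

set_option autoImplicit false
set_option linter.unusedSectionVars false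
set_option linter.style.haveILetI false

namespace Cfsg.Agent.Blocks.CountBound

open Cfsg Blocks
open Cfsg.Agent.BrauerPairs (regDot)
open scoped Classical ComplexConjugate

universe u

variable {G : Type u} [Group G] [Fintype G] {M : Ideal AlgInt} [M.IsMaximal] {p : ℕ}
  [hp : Fact p.Prime] {B : Set (IrrCharacter G)} (Z : Subgroup G) [Z.Normal]

/-- The block of `G ⧸ Z` inside `B`. -/
def dominated (B : Set (IrrCharacter G)) : Set (IrrCharacter (G ⧸ Z)) :=
  {χ | Char.inflate Z χ ∈ B}

theorem index_centralizer_of_central (hZ : Z ≤ Subgroup.center G) :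
    ∃ k : ℕ, (Subgroup.centralizer (Z : Set G)).index = p ^ k :=
  ⟨0, by
    rw [pow_zero, Subgroup.index_eq_one, eq_top_iff]
    exact fun x _ => Subgroup.mem_centralizer_iff.2 fun z hz =>
      (Subgroup.mem_center_iff.1 (hZ hz) x).symm⟩

variable (hZ : Z ≤ Subgroup.center G) (hZp : IsPGroup p Z)
include hZ hZp

theorem isPBlock_dominated (hpM : (p : AlgInt) ∈ M) (hB : IsPBlock M B) :
    IsPBlock M (dominated Z B) := by
  have hC := index_centralizer_of_central (p := p) Z hZ
  obtain ⟨θ, hθ, ht⟩ := BlocksX.exists_trivOn_mem hpM hZp hC hB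
  obtain ⟨χ, hχ⟩ := Char.exists_descend Z θ ht
  have hinf : Char.inflate Z χ = θ := Subtype.ext (funext hχ)
  refine ⟨χ, Set.ext fun ψ => ?_⟩
  rw [Blocks.mem_blockOf, BlocksX.sameBlock_inflate_iff hpM hZp hC χ ψ, hinf]
  show Char.inflate Z ψ ∈ B ↔ _
  rw [block_eq hB hθ]
  rfl

theorem isDefectGroup_dominated (hpM : (p : AlgInt) ∈ M) (hB : IsPBlock M B) {D : Subgroup G}
    (hD : IsDefectGroup p M B D) :
    IsDefectGroup p M (dominated Z B) (D.map (QuotientGroup.mk' Z)) := by
  obtain ⟨Bb, hBb, hsub, hdef⟩ := BlocksX.exists_block_quotient Z hpM hB hZp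
  have hdom := isPBlock_dominated Z hZ hZp hpM hB
  obtain ⟨χ, hχ⟩ := block_nonempty hBb
  have he : Bb = dominated Z B := by rw [block_eq hBb hχ, block_eq hdom (hsub χ hχ)]
  exact he ▸ (hdef _).2 ⟨D, hD, rfl⟩

theorem card_map_mul (hpM : (p : AlgInt) ∈ M) (hB : IsPBlock M B) {D : Subgroup G}
    (hD : IsDefectGroup p M B D) :
    Nat.card (D.map (QuotientGroup.mk' Z)) * Nat.card Z = Nat.card D := by
  have hZD : Z ≤ D := normal_le_defectGroup hpM hB hZp hD
  rw [← Subgroup.card_mul_index ((QuotientGroup.mk' Z).domRestrict D).ker,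
    Subgroup.index_ker, MonoidHom.domRestrict_range, mul_comm]
  congr 1
  rw [MonoidHom.ker_domRestrict, QuotientGroup.ker_mk']
  exact (Nat.card_congr (Subgroup.subgroupOfEquivOfLe hZD).toEquiv).symm

theorem isPRegular_mk_iff {g : G} :
    IsPRegular p g → IsPRegular p (g : G ⧸ Z) :=
  fun h hd => h (hd.trans (orderOf_map_dvd (QuotientGroup.mk' Z) g))

/-- The regular restriction of a member of `B` comes from the block of the quotient. -/
theorem exists_regular_comb (hpM : (p : AlgInt) ∈ M) (hB : IsPBlock M B) {η : IrrCharacter G}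
    (hη : η ∈ B) :
    ∃ n : IrrCharacter (G ⧸ Z) → ℤ, (∀ ξ, n ξ ≠ 0 → ξ ∈ dominated Z B) ∧
      ∀ s : G, IsPRegular p s → η.1 s = ∑ ξ, (n ξ : ℂ) * ξ.1 (s : G ⧸ Z) := by
  obtain ⟨n, hn, hsum⟩ := NilRank.exists_regular_combination hpM hB hη
  refine ⟨fun ξ => n (Char.inflate Z ξ), fun ξ hξ => (hn _ hξ).1, fun s hs => ?_⟩
  rw [hsum s hs]
  symm
  refine Fintype.sum_of_injective (Char.inflate Z) (Char.inflate_injective Z) _ _ ?_ fun ξ => rfl
  intro ψ hψ
  by_contra hne
  have hnψ : n ψ ≠ 0 := fun h => hne (by rw [h, Int.cast_zero, zero_mul])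
  obtain ⟨ξ, hξ⟩ := Char.exists_descend Z ψ fun z hz => (hn ψ hnψ).2 z
    (fun g => (Subgroup.mem_center_iff.1 (hZ hz) g).symm)
    (by
      obtain ⟨k, hk⟩ := IsPGroup.iff_orderOf.1 hZp ⟨z, hz⟩
      exact ⟨k, by rw [← hk, Subgroup.orderOf_mk]⟩)
  exact hψ ⟨ξ, Subtype.ext (funext hξ)⟩

/-- A regular coset contains exactly one regular element. -/
theorem existsUnique_regular {q : G ⧸ Z} (hq : IsPRegular p q) :
    ∃! g : G, IsPRegular p g ∧ (g : G ⧸ Z) = q := by
  obtain ⟨g, hg, hgq⟩ := BlocksX.exists_isPRegular_lift hq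
  refine ⟨g, ⟨hg, hgq⟩, fun g' ⟨hg', hgq'⟩ => ?_⟩
  have hu : g⁻¹ * g' ∈ Z := by rw [← QuotientGroup.eq, hgq, hgq']
  have h1 := BlocksX.eq_one_of_isPRegular_mul hZp (index_centralizer_of_central (p := p) Z hZ) hg hu
    (by rwa [mul_inv_cancel_left])
  exact (inv_mul_eq_one.1 h1).symm

theorem card_mul_regDot_inflate (χ ψ : IrrCharacter (G ⧸ Z)) :
    (Nat.card Z : ℂ) * regDot p (Char.inflate Z χ).1 (Char.inflate Z ψ).1 = regDot p χ.1 ψ.1 := by
  have hsum : ∑ g : G, Char.regFun p (Char.inflate Z χ).1 g * conj ((Char.inflate Z ψ).1 g) =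
      ∑ q : G ⧸ Z, Char.regFun p χ.1 q * conj (ψ.1 q) := by
    rw [← Finset.sum_fiberwise_of_maps_to (g := fun g : G => (g : G ⧸ Z))
      (t := (Finset.univ : Finset (G ⧸ Z))) fun g _ => Finset.mem_univ _]
    refine Finset.sum_congr rfl fun q _ => ?_
    by_cases hq : p ∣ orderOf q
    · rw [Char.regFun, if_pos hq, zero_mul]
      refine Finset.sum_eq_zero fun g hg => ?_
      rw [Char.regFun, if_pos (by
        by_contra h
        exact isPRegular_mk_iff Z hZ hZp h (by rwa [(Finset.mem_filter.1 hg).2])), zero_mul]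
    · obtain ⟨g, ⟨hg, hgq⟩, huniq⟩ := existsUnique_regular Z hZ hZp (show IsPRegular p q from hq)
      rw [Finset.sum_eq_single_of_mem g (Finset.mem_filter.2 ⟨Finset.mem_univ _, hgq⟩) fun g' hg' hne => by
        by_cases hd : p ∣ orderOf g'
        · rw [Char.regFun, if_pos hd, zero_mul]
        · exact absurd (huniq g' ⟨hd, (Finset.mem_filter.1 hg').2⟩) hne]
      have hg' : ¬ p ∣ orderOf g := hg
      simp only [Char.regFun, if_neg hg', if_neg hq, Char.inflate_apply, hgq]
  simp only [regDot, classInner, hsum]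
  rw [Z.card_eq_card_quotient_mul_card_subgroup, Nat.cast_mul, mul_inv_rev, mul_assoc,
    mul_inv_cancel_left₀ (Nat.cast_ne_zero.2 Nat.card_pos.ne')]

theorem blockRank_le_card (hpM : (p : AlgInt) ∈ M) (hB : IsPBlock M B) :
    blockRank p B ≤ Nat.card (dominated Z B) := by
  haveI := Fintype.ofFinite (G ⧸ Z)
  set S := Finset.univ.filter (fun ξ : IrrCharacter (G ⧸ Z) => ξ ∈ dominated Z B)
  set W := Submodule.span ℂ
    ((S.image fun ξ => pRegularPart p (Char.inflate Z ξ).1 : Finset (G → ℂ)) : Set (G → ℂ))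
  have hle : Submodule.span ℂ ((fun χ : IrrCharacter G => pRegularPart p χ.1) '' B) ≤ W := by
    rw [Submodule.span_le]
    rintro _ ⟨η, hη, rfl⟩
    obtain ⟨n, hn, hsum⟩ := exists_regular_comb Z hZ hZp hpM hB hη
    have he : pRegularPart p η.1 = ∑ ξ ∈ S, (n ξ : ℂ) • pRegularPart p (Char.inflate Z ξ).1 := by
      funext g
      simp only [Finset.sum_apply, Pi.smul_apply, smul_eq_mul, pRegularPart]
      by_cases hg : IsPRegular p g
      · rw [if_pos hg, hsum g hg]
        simp only [if_pos hg, Char.inflate_apply]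
        exact (Finset.sum_filter_of_ne fun ξ _ hne =>
          hn ξ fun h => hne (by rw [h, Int.cast_zero, zero_mul])).symm
      · simp [hg]
    show pRegularPart p η.1 ∈ W
    rw [he]
    exact Submodule.sum_mem _ fun ξ hξ => Submodule.smul_mem _ _
      (Submodule.subset_span (Finset.mem_coe.2 (Finset.mem_image_of_mem _ hξ)))
  refine (Submodule.finrank_mono hle).trans ((finrank_span_finset_le_card _).trans
    (Finset.card_image_le.trans (le_of_eq ?_)))
  rw [Nat.card_eq_fintype_card, Fintype.card_subtype]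

end Cfsg.Agent.Blocks.CountBound
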